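import Mathlib
import Cfsg.Agent.Omega.NatPair.Semi

/-!
# The affine group of `Fin 3` and the nonzero vectors of `F₂²`

* `exists_perm`, `exists_perm'` : a pair of permutations of `Fin 3` acting on `(i + j, i - j)` acts on `(i, j)`
  by a pair of permutations, possibly with an interchange;
* `av` : the three nonzero vectors, `exists_sl` : `SL₂(2)` induces all permutations of them.
-/

set_option autoImplicit false
set_option linter.unusedSectionVars false

namespace Cfsg.Agent.Omega.NO1.Many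

open Cfsg.Agent.Lib.SL2Mat Cfsg.Agent.Omega.NatPair

/-- `x ↦ α x + β` -/
def aff (α β : Fin 3) (h : α ≠ 0) : Equiv.Perm (Fin 3) where
  toFun x := α * x + β
  invFun x := α * (x - β)
  left_inv := by revert α β; decide
  right_inv := by revert α β; decide

theorem aff_apply (α β : Fin 3) (h : α ≠ 0) (x : Fin 3) : aff α β h x = α * x + β := rfl

theorem exists_aff : ∀ φ : Fin 3 → Fin 3, Function.Injective φ →
    ∃ α β : Fin 3, α ≠ 0 ∧ ∀ x, φ x = α * x + β := by
  intro φ hφ
  have h01 : φ 0 ≠ φ 1 := fun h => absurd (hφ h) (by decide)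
  have h02 : φ 0 ≠ φ 2 := fun h => absurd (hφ h) (by decide)
  have h12 : φ 1 ≠ φ 2 := fun h => absurd (hφ h) (by decide)
  have key : ∀ a b c : Fin 3, a ≠ b → a ≠ c → b ≠ c → ∃ α β : Fin 3, α ≠ 0 ∧
      a = α * 0 + β ∧ b = α * 1 + β ∧ c = α * 2 + β := by decide
  obtain ⟨α, β, h, h0, h1, h2⟩ := key _ _ _ h01 h02 h12
  refine ⟨α, β, h, fun x => ?_⟩
  fin_cases x
  · exact h0
  · exact h1
  · exact h2

theorem eq_or : ∀ α γ : Fin 3, α ≠ 0 → γ ≠ 0 → γ = α ∨ γ = 2 * α := by decide

/-- without interchange of the two lines -/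
theorem exists_perm {φ ψ : Fin 3 → Fin 3} (hφ : Function.Injective φ) (hψ : Function.Injective ψ) :
    ∃ σ τ : Equiv.Perm (Fin 3), (∀ i j, σ i + τ j = φ (i + j) ∧ σ i - τ j = ψ (i - j)) ∨
      ∀ i j, σ j + τ i = φ (i + j) ∧ σ j - τ i = ψ (i - j) := by
  obtain ⟨α, β, hα, h1⟩ := exists_aff φ hφ
  obtain ⟨γ, δ, hγ, h2⟩ := exists_aff ψ hψ
  refine ⟨aff α (2 * (β + δ)) hα, aff α (δ - β) hα, ?_⟩
  simp only [aff_apply, h1, h2]
  rcases eq_or α γ hα hγ with rfl | rfl
  · left
    clear hα hγ h1 h2 hφ hψ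
    revert γ β δ
    decide
  · right
    clear hα hγ h1 h2 hφ hψ
    revert α β δ
    decide

/-- with interchange of the two lines -/
theorem exists_perm' {φ ψ : Fin 3 → Fin 3} (hφ : Function.Injective φ) (hψ : Function.Injective ψ) :
    ∃ σ τ : Equiv.Perm (Fin 3), (∀ i j, σ i + τ j = ψ (i - j) ∧ σ i - τ j = φ (i + j)) ∨
      ∀ i j, σ j + τ i = ψ (i - j) ∧ σ j - τ i = φ (i + j) := by
  obtain ⟨α, β, hα, h1⟩ := exists_aff φ hφ
  obtain ⟨γ, δ, hγ, h2⟩ := exists_aff ψ hψ
  have h2α : 2 * α ≠ 0 := by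
    clear h1
    revert α
    decide
  refine ⟨aff α (2 * (β + δ)) hα, aff (2 * α) (β - δ) h2α, ?_⟩
  simp only [aff_apply, h1, h2]
  rcases eq_or α γ hα hγ with rfl | rfl
  · left
    clear hα hγ h1 h2 hφ hψ h2α
    revert γ β δ
    decide
  · right
    clear hα hγ h1 h2 hφ hψ h2α
    revert α β δ
    decide

/-- the converse: a pair of permutations of `(i, j)` acts on `(i + j, i - j)` -/
theorem exists_split (σ τ : Equiv.Perm (Fin 3)) :
    ∃ φ ψ : Fin 3 → Fin 3, Function.Injective φ ∧ Function.Injective ψ ∧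
      ((∀ i j, σ i + τ j = φ (i + j) ∧ σ i - τ j = ψ (i - j)) ∨
        ∀ i j, σ i + τ j = ψ (i - j) ∧ σ i - τ j = φ (i + j)) := by
  obtain ⟨α, s, hα, h1⟩ := exists_aff σ σ.injective
  obtain ⟨γ, t, hγ, h2⟩ := exists_aff τ τ.injective
  rcases eq_or α γ hα hγ with rfl | rfl
  · refine ⟨aff γ (s + t) hα, aff γ (s - t) hα, Equiv.injective _, Equiv.injective _, Or.inl ?_⟩
    simp only [aff_apply, h1, h2]
    clear hα hγ h1 h2
    revert γ s t
    decide
  · refine ⟨aff α (s - t) hα, aff α (s + t) hα, Equiv.injective _, Equiv.injective _, Or.inr ?_⟩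
    simp only [aff_apply, h1, h2]
    clear hα hγ h1 h2
    revert α s t
    decide

section vec

variable {F : Type*} [Field F]

/-- the three nonzero vectors of `F₂²` -/
def av (F : Type*) [Field F] : Fin 3 → Fin 2 → F := ![![1, 0], ![0, 1], ![1, 1]]

variable [CharP F 2]

theorem av_add : ∀ i j : Fin 3, i ≠ j → av F i + av F j = av F (2 * (i + j)) := by
  have h2 : (1 : F) + 1 = 0 := CharTwo.add_self_eq_zero 1
  intro i j hij
  fin_cases i <;> fin_cases j <;> first | exact absurd rfl hij | skip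
  all_goals
    funext x
    fin_cases x <;> simp [av, h2]

theorem av_ne_zero (i : Fin 3) : av F i ≠ 0 := by
  intro h
  fin_cases i
  · exact one_ne_zero (congrFun h 0)
  · exact one_ne_zero (congrFun h 1)
  · exact one_ne_zero (congrFun h 0)

theorem av_injective : Function.Injective (av F) := by
  intro i j h
  by_contra hij
  have h1 := av_add (F := F) i j hij
  rw [h] at h1
  have h3 : av F j + av F j = 0 := by
    funext x
    exact CharTwo.add_self_eq_zero _
  rw [h3] at h1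
  exact av_ne_zero _ h1.symm

theorem exists_av (hF : ∀ c : F, c = 0 ∨ c = 1) {x : Fin 2 → F} (hx : x ≠ 0) : ∃ i, x = av F i := by
  rcases hF (x 0) with h0 | h0 <;> rcases hF (x 1) with h1 | h1
  · exact absurd (ext2 h0 h1) hx
  · exact ⟨1, ext2 h0 h1⟩
  · exact ⟨0, ext2 h0 h1⟩
  · exact ⟨2, ext2 h0 h1⟩

/-- `SL₂(2)` induces all permutations of the three vectors -/
theorem exists_sl {φ : Fin 3 → Fin 3} (hφ : Function.Injective φ) :
    ∃ A : Matrix.SpecialLinearGroup (Fin 2) F, ∀ i, ap A (av F i) = av F (φ i) := by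
  have h2 : (1 : F) + 1 = 0 := CharTwo.add_self_eq_zero 1
  have hneg : (-1 : F) = 1 := neg_eq_of_add_eq_zero_right h2
  have hdet : ∀ i j : Fin 3, i ≠ j → av F i 0 * av F j 1 - av F j 0 * av F i 1 = 1 := by
    intro i j hij
    fin_cases i <;> fin_cases j <;> first | exact absurd rfl hij | skip
    all_goals simp [av, hneg]
  have h01 : φ 0 ≠ φ 1 := fun h => absurd (hφ h) (by decide)
  have h02 : φ 0 ≠ φ 2 := fun h => absurd (hφ h) (by decide)
  have h12 : φ 1 ≠ φ 2 := fun h => absurd (hφ h) (by decide)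
  refine ⟨mk (av F (φ 0) 0) (av F (φ 1) 0) (av F (φ 0) 1) (av F (φ 1) 1) (hdet _ _ h01), fun i => ?_⟩
  fin_cases i
  · apply ext2
    · rw [ap_zero']; simp [av]
    · rw [ap_one']; simp [av]
  · apply ext2
    · rw [ap_zero']; simp [av]
    · rw [ap_one']; simp [av]
  · have h3 := av_add (F := F) _ _ h01
    have h4 : 2 * (φ 0 + φ 1) = φ 2 := by
      have key : ∀ a b c : Fin 3, a ≠ b → a ≠ c → b ≠ c → 2 * (a + b) = c := by decide
      exact key _ _ _ h01 h02 h12
    rw [h4] at h3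
    change ap _ (av F 2) = av F (φ 2)
    rw [← h3]
    apply ext2
    · rw [ap_zero']; simp [av]
    · rw [ap_one']; simp [av]

end vec

end Cfsg.Agent.Omega.NO1.Many
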