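import Cfsg.Agent.Omega.NO1.Many.Tool
import Cfsg.Agent.Lib.FrattiniPGroup

/-!
# The leaf N1, `V_P` a sum of `k` natural modules: coordinates

`M : NatK F T H V ⊥ k`, `hA : Amb T H V`.

* `comp_eq` : the component of `g x g⁻¹` at `σ i` depends only on the component of `x` at `i`;
* `line` : `T` preserves the lines `{x | x 1 = 0}`, with the permutation of the summands;
* `mem_of_comps` : `u ∈ X` if every component of `u` is in `X`;
* `Ln` : the sum of the lines; `Ln_le` : `Ln ≤ E` if `E ≤ V` is normalised by `T` and not contained in `Ln`;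
* `exists_blk` : an index-2 system of blocks, coarser than a given `T`-invariant equivalence relation.
-/

set_option autoImplicit false
set_option linter.unusedSectionVars false

namespace Cfsg.Agent.Omega.NO1.Many

open Subgroup Cfsg Cfsg.Agent.Omega.FFThm
open Cfsg.Agent.Omega.Half Cfsg.Agent.Omega.Half.NatA
open Cfsg.Agent.Lib.SL2Mat Cfsg.Agent.Omega.NatPair

universe u

variable {G : Type u} [Group G] {F : Type} [Field F] {T H V : Subgroup G} {k : ℕ}

section basic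

variable {M : NatK F T H V ⊥ k} (hA : Amb T H V)

include hA

theorem conj_mem' {g v : G} (hg : g ∈ H) (hv : v ∈ V) : g⁻¹ * v * g ∈ V := by
  have := hA.conj_mem (inv_mem hg) hv
  rwa [inv_inv] at this

theorem sq_self {v : G} (hv : v ∈ V) : v * v = 1 := by
  rw [← pow_two]
  exact hA.sq v hv

theorem self_inv {v : G} (hv : v ∈ V) : v⁻¹ = v := inv_eq_of_mul_eq_one_left (sq_self hA hv)

/-- the component of `g x g⁻¹` at `σ i` depends only on the component of `x` at `i` -/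
theorem comp_eq {g : G} {σ : Equiv.Perm (Fin k)} (h : Mv M g σ) (hg : g ∈ H) {x y : G} (hx : x ∈ V)
    (hy : y ∈ V) {i : Fin k} (hxy : M.e x i = M.e y i) :
    M.e (g * x * g⁻¹) (σ i) = M.e (g * y * g⁻¹) (σ i) := by
  have h1 : M.e (x * y⁻¹) i = 0 := by
    rw [M.mul x hx _ (inv_mem hy), e_inv M hy, Pi.add_apply, Pi.neg_apply, hxy, add_neg_cancel]
  have h2 := (h _ (mul_mem hx (inv_mem hy)) i).2 h1
  have e : g * (x * y⁻¹) * g⁻¹ = (g * x * g⁻¹) * (g * y * g⁻¹)⁻¹ := by group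
  rw [e, M.mul _ (hA.conj_mem hg hx) _ (inv_mem (hA.conj_mem hg hy)), e_inv M (hA.conj_mem hg hy),
    Pi.add_apply, Pi.neg_apply, ← sub_eq_add_neg] at h2
  exact sub_eq_zero.1 h2

omit hA in
theorem fac_single {i j : Fin k} {v : G} (hv : v ∈ fac M {i}) (hij : j ≠ i) : M.e v j = 0 :=
  hv.2 j hij

omit hA in
theorem eq_of_comp {i : Fin k} {v w : G} (hv : v ∈ fac M {i}) (hw : w ∈ fac M {i}) (h : M.e v i = M.e w i) :
    v = w := by
  apply inj M hv.1 hw.1
  funext j
  by_cases hj : j = i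
  · rw [hj, h]
  · rw [hv.2 j hj, hw.2 j hj]

omit hA in
theorem comp_ne_zero {i : Fin k} {v : G} (hv : v ∈ fac M {i}) (hv1 : v ≠ 1) : M.e v i ≠ 0 := by
  intro h
  apply hv1
  apply eq_one M hv.1
  funext j
  by_cases hj : j = i
  · rw [hj, h]; rfl
  · rw [hv.2 j hj]; rfl

theorem conj_fac {g : G} {σ : Equiv.Perm (Fin k)} (h : Mv M g σ) (hg : g ∈ H) {i : Fin k} {v : G}
    (hv : v ∈ fac M {i}) : g * v * g⁻¹ ∈ fac M {σ i} := by
  have := h.conj M hA hg hv
  rwa [Set.image_singleton] at this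

theorem mv_mul {g h : G} {σ τ : Equiv.Perm (Fin k)} (hh : h ∈ H) (h1 : Mv M g σ) (h2 : Mv M h τ) :
    Mv M (g * h) (σ * τ) := by
  intro v hv i
  have e1 : g * h * v * (g * h)⁻¹ = g * (h * v * h⁻¹) * g⁻¹ := by group
  rw [e1, Equiv.Perm.mul_apply, h1 _ (hA.conj_mem hh hv), h2 v hv]

/-- the permutation is determined by one vector -/
theorem mv_apply_eq {g : G} {σ : Equiv.Perm (Fin k)} (h : Mv M g σ) (hg : g ∈ H) {i j : Fin k} {v : G}
    (hv : v ∈ fac M {i}) (hj : M.e (g * v * g⁻¹) j ≠ 0) : σ i = j := by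
  by_contra hne
  exact hj ((conj_fac hA h hg hv).2 j fun h => hne h.symm)

/-- an element with a fixed vector with nonzero `i`-component fixes ... -/
theorem supp_iff {g d : G} {σ : Equiv.Perm (Fin k)} (h : Mv M g σ) (hd : d ∈ V) (hgd : g * d * g⁻¹ = d)
    (i : Fin k) : M.e d (σ i) = 0 ↔ M.e d i = 0 := by
  have := h d hd i
  rwa [hgd] at this

/-- `T` preserves the lines. -/
theorem line {t : G} (ht : t ∈ T) {σ : Equiv.Perm (Fin k)} (h : Mv M t σ) {v : G} (hv : v ∈ V) (i : Fin k) :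
    M.e (t * v * t⁻¹) (σ i) 1 = 0 ↔ M.e v i 1 = 0 := by
  obtain ⟨τ, hτ⟩ := M.line t ht
  have hστ : ∀ i, τ i = σ i := by
    intro i
    obtain ⟨w, hw, hwi⟩ := exists_fac M {i} fun _ => ![0, 1]
    have hwi := hwi i rfl
    by_contra hne
    have h1 := (conj_fac hA h (hA.TH ht) hw).2 (τ i) hne
    have h2 := (hτ w hw.1 i).1 (by rw [h1]; rfl)
    rw [hwi] at h2
    exact one_ne_zero h2
  rw [← hστ]
  exact hτ v hv i

omit hA in
/-- `u ∈ X` if every component of `u` is in `X`. -/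
theorem mem_of_comps {X : Subgroup G} {u : G} (hu : u ∈ V)
    (h : ∀ i, ∃ x ∈ X, x ∈ fac M {i} ∧ M.e x i = M.e u i) : u ∈ X := by
  have hall : ∀ s : Finset (Fin k), ∀ v ∈ V, (∀ i, ∃ x ∈ X, x ∈ fac M {i} ∧ M.e x i = M.e v i) →
      (∀ j, j ∉ s → M.e v j = 0) → v ∈ X := by
    intro s
    induction s using Finset.induction_on with
    | empty =>
      intro v hv _ h
      have : v = 1 := eq_one M hv (funext fun j => h j (Finset.notMem_empty j))
      rw [this]
      exact one_mem X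
    | insert a s has ih =>
      intro v hv hc h
      obtain ⟨x, hx, hxa, hxe⟩ := hc a
      have hcomp : ∀ i, M.e (v * x⁻¹) i = M.e v i - M.e x i := by
        intro i
        rw [M.mul v hv _ (inv_mem hxa.1), e_inv M hxa.1, Pi.add_apply, Pi.neg_apply, sub_eq_add_neg]
      have h1 : v * x⁻¹ ∈ X := by
        refine ih _ (mul_mem hv (inv_mem hxa.1)) (fun i => ?_) fun j hj => ?_
        · by_cases hia : i = a
          · refine ⟨1, one_mem X, one_mem _, ?_⟩
            rw [hcomp, hia, hxe, sub_self, e_one]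
            rfl
          · obtain ⟨y, hy, hyi, hye⟩ := hc i
            refine ⟨y, hy, hyi, ?_⟩
            rw [hcomp, hxa.2 i hia, sub_zero, hye]
        · by_cases hja : j = a
          · rw [hcomp, hja, hxe, sub_self]
          · rw [hcomp, hxa.2 j hja, sub_zero]
            exact h j fun h' => (Finset.mem_insert.1 h').elim hja hj
      have h2 : v = v * x⁻¹ * x := by group
      rw [h2]
      exact mul_mem h1 hx
  exact hall Finset.univ u hu h fun j hj => absurd (Finset.mem_univ j) hj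

end basic

/-! ### The sum of the lines -/

section lines

variable (M : NatK F T H V ⊥ k)

/-- the sum of the lines -/
def Ln : Subgroup G where
  carrier := {v | v ∈ V ∧ ∀ i, M.e v i 1 = 0}
  mul_mem' := by
    rintro v w ⟨hv, h1⟩ ⟨hw, h2⟩
    refine ⟨mul_mem hv hw, fun i => ?_⟩
    rw [M.mul v hv w hw, Pi.add_apply, Pi.add_apply, h1 i, h2 i, add_zero]
  one_mem' := ⟨one_mem V, fun i => by rw [e_one]; rfl⟩
  inv_mem' := by
    rintro v ⟨hv, h1⟩
    refine ⟨inv_mem hv, fun i => ?_⟩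
    rw [e_inv M hv, Pi.neg_apply, Pi.neg_apply, h1 i, neg_zero]

theorem mem_Ln {v : G} : v ∈ Ln M ↔ v ∈ V ∧ ∀ i, M.e v i 1 = 0 := Iff.rfl

variable {M} (hA : Amb T H V)

include hA

/-- `Ln ≤ E` if `E ≤ V` is normalised by `T` and `E ≰ Ln`. -/
theorem Ln_le {E : Subgroup G} (hEV : E ≤ V) (hT : ∀ t ∈ T, ∀ e ∈ E, t * e * t⁻¹ ∈ E) {e : G} (he : e ∈ E)
    {i : Fin k} (hi : M.e e i 1 ≠ 0) : Ln M ≤ E := by
  classical
  intro y hy
  refine mem_of_comps (M := M) hy.1 fun m => ?_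
  -- move `i` to `m`
  obtain ⟨s, hs, hsm⟩ := M.trans i m
  obtain ⟨σ, hσ⟩ := M.perm s (hA.TH hs)
  have hσi : σ i = m := Mv.unique M hA (σ := σ) hσ (hA.TH hs) hsm
  have he' := hT s hs e he
  have hm : M.e (s * e * s⁻¹) m 1 ≠ 0 := by
    rw [← hσi, Ne, line hA hs hσ (hEV he)]
    exact hi
  set c := s * e * s⁻¹ with hc
  obtain ⟨t, ht, hta, -⟩ := M.unip (Function.update 0 m (M.e y m 0 * (M.e c m 1)⁻¹))
  have h1 : t * c * t⁻¹ ∈ E := hT t ht c he'
  have hcV := hEV he'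
  have hta : ∀ v ∈ V, ∀ j, M.e (t * v * t⁻¹) j =
      ap (up (Function.update (0 : Fin k → F) m (M.e y m 0 * (M.e c m 1)⁻¹) j)) (M.e v j) := hta
  have hcomp : ∀ j, M.e (t * c * t⁻¹ * c⁻¹) j = if j = m then ![M.e y m 0, 0] else 0 := by
    intro j
    rw [M.mul _ (hEV h1) _ (inv_mem hcV), e_inv M hcV, Pi.add_apply, Pi.neg_apply, hta c hcV j]
    by_cases hj : j = m
    · rw [if_pos hj, hj, Function.update_self]
      apply ext2
      · rw [Pi.add_apply, Pi.neg_apply, ap_zero', up_00, up_01, one_mul, mul_assoc, inv_mul_cancel₀ hm, mul_one]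
        simp
      · rw [Pi.add_apply, Pi.neg_apply, ap_one', up_10, up_11, zero_mul, one_mul, zero_add, add_neg_cancel]
        rfl
    · rw [if_neg hj, Function.update_of_ne hj, Pi.zero_apply]
      apply ext2
      · rw [Pi.add_apply, Pi.neg_apply, ap_zero', up_00, up_01, one_mul, zero_mul, add_zero, add_neg_cancel]
        rfl
      · rw [Pi.add_apply, Pi.neg_apply, ap_one', up_10, up_11, zero_mul, one_mul, zero_add, add_neg_cancel]
        rfl
  refine ⟨_, mul_mem h1 (inv_mem he'), ⟨mul_mem (hEV h1) (inv_mem hcV), fun j hj => ?_⟩, ?_⟩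
  · rw [hcomp]
    exact if_neg (show ¬ j = m from hj)
  · rw [hcomp, if_pos rfl]
    exact ext2 rfl (hy.2 m).symm

end lines

/-! ### Blocks -/

section blocks

variable {M : NatK F T H V ⊥ k} (hA : Amb T H V)

include hA

/-- An index-2 system of blocks, coarser than a given `T`-invariant equivalence relation `R`. -/
theorem exists_blk [Finite G] (hT2 : IsPGroup 2 T) (R : Fin k → Fin k → Prop) (hrefl : ∀ a, R a a)
    (htrans : ∀ a b c, R a b → R b c → R a c)
    (hinv : ∀ t ∈ T, ∀ σ, Mv M t σ → ∀ a b, R a b → R (σ a) (σ b)) {i m₀ : Fin k} (hm₀ : ¬ R i m₀) :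
    ∃ B : Set (Fin k), Blk M B ∧ ∀ j, R i j → j ∉ B := by
  have : Fact (Nat.Prime 2) := ⟨Nat.prime_two⟩
  have hmv : ∀ t ∈ T, ∃ σ, Mv M t σ := fun t ht => M.perm t (hA.TH ht)
  have huniq : ∀ t ∈ T, ∀ σ τ, Mv M t σ → Mv M t τ → ∀ a, σ a = τ a := fun t ht σ τ hσ hτ a =>
    Mv.unique M hA (σ := σ) hσ (hA.TH ht) fun v hv => hτ v hv a
  -- the stabiliser of the class of `i`
  let N : Subgroup T :=
    { carrier := {t | ∀ σ, Mv M (t : G) σ → R i (σ i)}
      mul_mem' := by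
        rintro ⟨s, hs⟩ ⟨t, ht⟩ h1 h2 σ hσ
        obtain ⟨α, hα⟩ := hmv s hs
        obtain ⟨β, hβ⟩ := hmv t ht
        have h3 := huniq (s * t) (mul_mem hs ht) _ _ hσ (mv_mul hA (hA.TH ht) hα hβ) i
        rw [h3, Equiv.Perm.mul_apply]
        exact htrans _ _ _ (h1 α hα) (hinv s hs α hα _ _ (h2 β hβ))
      one_mem' := by
        intro σ hσ
        have h1 : Mv M (1 : G) (1 : Equiv.Perm (Fin k)) := by
          intro v hv i
          rw [one_mul, inv_one, mul_one]
          rfl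
        rw [huniq 1 (one_mem T) σ 1 hσ h1 i]
        exact hrefl i
      inv_mem' := by
        rintro ⟨t, ht⟩ h1 σ hσ
        -- powers of `t`
        obtain ⟨α, hα⟩ := hmv t ht
        have h2 := Mv.inv M hA (σ := α) hα (hA.TH ht)
        rw [huniq t⁻¹ (inv_mem ht) σ α.symm hσ h2 i]
        -- `t⁻¹ = t ^ n`
        have hpow : ∀ n : ℕ, R i ((α ^ n) i) := by
          intro n
          induction n with
          | zero => exact hrefl i
          | succ n ih =>
            rw [pow_succ', Equiv.Perm.mul_apply]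
            exact htrans _ _ _ (h1 α hα) (hinv t ht α hα _ _ ih)
        have h3 : α.symm = α ^ (orderOf α - 1) := by
          have h4 : α ^ (orderOf α - 1) * α = 1 := by
            rw [← pow_succ, Nat.sub_add_cancel (orderOf_pos α), pow_orderOf_eq_one]
          exact (eq_inv_of_mul_eq_one_left h4).symm
        rw [h3]
        exact hpow _ }
  have hN : N ≠ ⊤ := by
    intro h
    obtain ⟨t, ht, h1⟩ := M.trans i m₀
    obtain ⟨σ, hσ⟩ := hmv t ht
    have h2 : (⟨t, ht⟩ : T) ∈ N := h ▸ mem_top _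
    apply hm₀
    rw [← Mv.unique M hA (σ := σ) hσ (hA.TH ht) h1]
    exact h2 σ hσ
  obtain ⟨K, hK, hNK⟩ := (eq_top_or_exists_le_coatom N).resolve_left hN
  have hK2 : K.index = 2 := Lib.FrattiniPGroup.index_of_coatom hT2 hK
  have hstab : ∀ t (ht : t ∈ T) σ, Mv M t σ → σ i = i → (⟨t, ht⟩ : T) ∈ K := by
    intro t ht σ hσ h1
    refine hNK fun τ hτ => ?_
    rw [huniq t ht τ σ hτ hσ i, h1]
    exact hrefl i
  let B : Set (Fin k) := {m | ∃ t : T, t ∉ K ∧ ∃ σ, Mv M (t : G) σ ∧ σ i = m}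
  have hBc : ∀ m, m ∉ B ↔ ∃ t : T, t ∈ K ∧ ∃ σ, Mv M (t : G) σ ∧ σ i = m := by
    intro m
    constructor
    · intro h
      obtain ⟨t, ht, h1⟩ := M.trans i m
      obtain ⟨σ, hσ⟩ := hmv t ht
      have h2 := Mv.unique M hA (σ := σ) hσ (hA.TH ht) h1
      refine ⟨⟨t, ht⟩, ?_, σ, hσ, h2⟩
      by_contra h3
      exact h ⟨⟨t, ht⟩, h3, σ, hσ, h2⟩
    · rintro ⟨t, ht, σ, hσ, h1⟩ ⟨s, hs, τ, hτ, h2⟩
      apply hs
      have h3 : t⁻¹ * s ∈ K := by
        refine hstab _ (mul_mem (inv_mem t.2) s.2) (σ.symm * τ) ?_ ?_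
        · exact mv_mul hA (hA.TH s.2) (Mv.inv M hA (σ := σ) hσ (hA.TH t.2)) hτ
        · rw [Equiv.Perm.mul_apply, h2, ← h1, Equiv.symm_apply_apply]
      have h4 := K.mul_mem ht h3
      rwa [mul_inv_cancel_left] at h4
  have hmov : ∀ (t : T) σ, Mv M (t : G) σ → ∀ m, (t ∈ K → (σ m ∈ B ↔ m ∈ B)) ∧ (t ∉ K → (σ m ∈ B ↔ m ∉ B)) := by
    intro t σ hσ m
    have key : ∀ s : T, ∀ τ, Mv M (s : G) τ → τ i = m → ((t * s : T) ∉ K ↔ σ m ∈ B) := by
      intro s τ hτ h1
      have h2 : Mv M ((t * s : T) : G) (σ * τ) := mv_mul hA (hA.TH s.2) hσ hτ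
      have h3 : (σ * τ) i = σ m := by rw [Equiv.Perm.mul_apply, h1]
      constructor
      · intro h
        exact ⟨_, h, _, h2, h3⟩
      · intro h h4
        exact (hBc (σ m)).2 ⟨_, h4, _, h2, h3⟩ h
    have key2 : ∀ s : T, ∀ τ, Mv M (s : G) τ → τ i = m → (s ∉ K ↔ m ∈ B) := by
      intro s τ hτ h1
      constructor
      · intro h
        exact ⟨_, h, _, hτ, h1⟩
      · intro h h4
        exact (hBc m).2 ⟨_, h4, _, hτ, h1⟩ h
    obtain ⟨s, hs, h1⟩ := M.trans i m
    obtain ⟨τ, hτ⟩ := hmv s hs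
    have h2 := Mv.unique M hA (σ := τ) hτ (hA.TH hs) h1
    have h3 := key ⟨s, hs⟩ τ hτ h2
    have h4 := key2 ⟨s, hs⟩ τ hτ h2
    have h5 := mul_mem_iff_of_index_two hK2 (a := t) (b := ⟨s, hs⟩)
    constructor
    · intro ht
      rw [← h3, ← h4, h5]
      simp [ht]
    · intro ht
      rw [← h3, ← h4, h5]
      simp [ht]
  have hi : i ∉ B := by
    rw [hBc]
    refine ⟨1, one_mem K, 1, ?_, rfl⟩
    intro v hv i
    rw [OneMemClass.coe_one, one_mul, inv_one, mul_one]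
    rfl
  refine ⟨B, ⟨?_, ⟨i, hi⟩, ?_⟩, ?_⟩
  · -- `B` is not empty
    obtain ⟨t, ht⟩ : ∃ t : T, t ∉ K := by
      by_contra h
      push Not at h
      exact hK.1 ((eq_top_iff' K).2 h)
    obtain ⟨σ, hσ⟩ := hmv t t.2
    exact ⟨σ i, t, ht, σ, hσ, rfl⟩
  · intro t ht σ hσ
    by_cases htK : (⟨t, ht⟩ : T) ∈ K
    · left
      ext m
      constructor
      · rintro ⟨a, ha, rfl⟩
        exact ((hmov ⟨t, ht⟩ σ hσ a).1 htK).2 ha
      · intro hm
        refine ⟨σ.symm m, ?_, σ.apply_symm_apply m⟩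
        rw [← (hmov ⟨t, ht⟩ σ hσ _).1 htK, σ.apply_symm_apply]
        exact hm
    · right
      ext m
      constructor
      · rintro ⟨a, ha, rfl⟩ h
        exact ((hmov ⟨t, ht⟩ σ hσ a).2 htK).1 h ha
      · intro hm
        refine ⟨σ.symm m, ?_, σ.apply_symm_apply m⟩
        by_contra h
        rw [← (hmov ⟨t, ht⟩ σ hσ _).2 htK, σ.apply_symm_apply] at h
        exact hm h
  · intro j hj
    rw [hBc]
    obtain ⟨t, ht, h1⟩ := M.trans i j
    obtain ⟨σ, hσ⟩ := hmv t ht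
    have h2 := Mv.unique M hA (σ := σ) hσ (hA.TH ht) h1
    refine ⟨⟨t, ht⟩, hNK fun τ hτ => ?_, σ, hσ, h2⟩
    rw [huniq t ht τ σ hτ hσ i, h2]
    exact hj

end blocks

end Cfsg.Agent.Omega.NO1.Many
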