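import Cfsg.Agent.Omega.NO1.Many.Swap

/-!
# The leaf N1, `V_P` a sum of `k ≥ 2` natural modules, `A` fixes the summand of `v` (text helper727 #14576 (3), (4))

`v ∈ V_i - E`, a frame at `v`, all elements of `A = E^g` fix `i`; the lines lie in `E` and `E` is not the sum of
the lines.  `fix_false` : contradiction.
-/

set_option autoImplicit false
set_option linter.unusedSectionVars false

namespace Cfsg.Agent.Omega.NO1.Many

open Subgroup Cfsg Cfsg.Agent.ZN Cfsg.Agent.Omega.MinPar Cfsg.Agent.Omega.Frame Cfsg.Agent.Omega.FFThm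
open Cfsg.Agent.Omega.NoFF.LinesPlug (CC NoOne)
open Cfsg.Agent.Omega.Half Cfsg.Agent.Omega.Half.NatA
open Cfsg.Agent.Lib.SL2Mat Cfsg.Agent.Omega.NatPair
open scoped Pointwise

universe u

variable {G : Type u} [Group G] {F : Type} [Field F]

theorem add_self' [CharP F 2] (x : Fin 2 → F) : x + x = 0 := funext fun _ => CharTwo.add_self_eq_zero _

theorem decomp (x : Fin 2 → F) : x = x 0 • ![1, 0] + x 1 • ![0, 1] := by
  apply ext2
  · simp
  · simp

section lin

variable [CharP F 2] {T H V : Subgroup G} {k : ℕ} {M : NatK F T H V ⊥ k} (hA : Amb T H V) {a : G} (ha : a ∈ T)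
  (ha2 : a * a = 1) {σ : Equiv.Perm (Fin k)} (hσ : Mv M a σ) {i : Fin k} (hσi : σ i = i)
  {L : (Fin 2 → F) → (Fin 2 → F)} {τ : F → F} (hs : Sem M a σ i L τ)

include hA ha ha2 hσ hσi hs

theorem sem_e {w : G} (hw : w ∈ V) : M.e (a * w * a⁻¹) i = L (M.e w i) := by
  have := hs.e w hw
  rwa [hσi] at this

theorem sem_sq (x : Fin 2 → F) : L (L x) = x := by
  obtain ⟨w, hw, hx⟩ := exists_fac M {i} fun _ => x
  have hx := hx i rfl
  have h1 := sem_e hA ha ha2 hσ hσi hs hw.1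
  have h2 := sem_e hA ha ha2 hσ hσi hs (hA.conj_mem (hA.TH ha) hw.1)
  have e : a * (a * w * a⁻¹) * a⁻¹ = (a * a) * w * (a * a)⁻¹ := by group
  rw [e, ha2, one_mul, inv_one, mul_one, h1, hx] at h2
  exact h2.symm

theorem sem_line (x : Fin 2 → F) : L x 1 = 0 ↔ x 1 = 0 := by
  obtain ⟨w, hw, hx⟩ := exists_fac M {i} fun _ => x
  have hx := hx i rfl
  have h1 := line hA ha hσ hw.1 i
  rw [hs.e w hw.1, hx] at h1
  exact h1

/-- a linear involution of `A` acts as an upper unitriangular matrix -/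
theorem sem_lin (hτ : ∀ c, τ c = c) : ∃ b : F, ∀ x : Fin 2 → F, L x = x + (x 1 * b) • ![1, 0] := by
  have hlin : ∀ (c : F) x, L (c • x) = c • L x := fun c x => by rw [hs.smul, hτ]
  have h10 : L ![1, 0] 1 = 0 := (sem_line hA ha ha2 hσ hσi hs ![1, 0]).2 rfl
  have hL1 : L ![1, 0] = (L ![1, 0] 0) • ![1, 0] := by
    apply ext2
    · simp
    · rw [h10]; simp
  have hsq : ∀ c : F, c * c = 1 → c = 1 := by
    intro c hc
    have h1 : (c + 1) * (c + 1) = 0 := by
      have : (c + 1) * (c + 1) = c * c + 1 + (c + c) := by ring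
      rw [this, hc, CharTwo.add_self_eq_zero, CharTwo.add_self_eq_zero, add_zero]
    have h2 : c + 1 = 0 := by
      rcases mul_eq_zero.1 h1 with h | h <;> exact h
    have h3 : c + 1 + 1 = 1 := by rw [h2, zero_add]
    rwa [add_assoc, CharTwo.add_self_eq_zero, add_zero] at h3
  set c := L ![1, 0] 0 with hc
  have h2 := sem_sq hA ha ha2 hσ hσi hs ![1, 0]
  rw [hL1, hlin, hL1] at h2
  have h3 := congrFun h2 0
  simp only [Pi.smul_apply, smul_eq_mul, Matrix.cons_val_zero, mul_one] at h3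
  have hc1 := hsq c h3
  rw [hc1, one_smul] at hL1
  -- the other basis vector
  have h4 := sem_sq hA ha ha2 hσ hσi hs ![0, 1]
  set b := L ![0, 1] 0 with hb
  set d := L ![0, 1] 1 with hd
  have hL2 : L ![0, 1] = b • ![1, 0] + d • ![0, 1] := decomp (L ![0, 1])
  rw [hL2, hs.add, hlin, hlin, hL1, hL2] at h4
  have h5 := congrFun h4 1
  simp only [Pi.smul_apply, Pi.add_apply, smul_eq_mul, Matrix.cons_val_one, Matrix.cons_val_zero, mul_one, mul_zero,
    zero_add] at h5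
  have hd1 := hsq d h5
  refine ⟨b, fun x => ?_⟩
  conv_lhs => rw [decomp x]
  rw [hs.add, hlin, hlin, hL1, hL2, hd1]
  apply ext2
  · simp
  · simp

end lin

/-! ### All elements of `A` fix `i` -/

section fix

variable [Finite G] {S : Sylow 2 G} {P : Subgroup G} (h : Cfg S P) [CharP F 2] [Finite F] {k : ℕ}
  {M : NatK F (S : Subgroup G) P (zl (S : Subgroup G) P) ⊥ k} {v g : G} (f : Fam S P v g)
  {i : Fin k} (hv : v ∈ fac M {i})
  (hfix : ∀ a ∈ AA (S : Subgroup G) P g, ∀ σ, Mv M a σ → σ i = i)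
  {e₀ : G} (he₀ : e₀ ∈ EE (S : Subgroup G) P) (he₀i : M.e e₀ i 1 ≠ 0)

include f in
/-- `A ≰ D` -/
theorem not_A_le : ¬ AA (S : Subgroup G) P g ≤ DD (S : Subgroup G) P g := by
  intro hAD
  refine f.fin.ne (le_antisymm inf_le_left ?_)
  have h1 : AA (S : Subgroup G) P g ≤ EE (S : Subgroup G) P := hAD.trans inf_le_left
  have h2 : AA (S : Subgroup G) P g = EE (S : Subgroup G) P :=
    Subgroup.eq_of_le_of_card_ge h1 (by rw [NOne.Choice.card_conj])
  exact le_inf le_rfl h2.ge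

include h f hv hfix he₀ he₀i

/-- some element of `A` acts nonlinearly on `V_i` -/
theorem exists_nonlin : ∃ a ∈ AA (S : Subgroup G) P g, ∃ σ, Mv M a σ ∧ σ i = i ∧
    ∃ L τ, Sem M a σ i L τ ∧ ∃ c, τ c ≠ c := by
  have hA := amb h
  by_contra hcon
  push Not at hcon
  apply not_A_le f
  intro b hb
  have hlin : ∀ a ∈ AA (S : Subgroup G) P g, ∃ β : F, ∀ w ∈ zl (S : Subgroup G) P,
      M.e (a * w * a⁻¹) i = M.e w i + (M.e w i 1 * β) • ![1, 0] := by
    intro a ha
    obtain ⟨σ, hσ⟩ := M.perm a (AP h f ha)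
    have hσi := hfix a ha σ hσ
    obtain ⟨L, τ, hs⟩ := exists_T hA (AP h f ha) hσ i
    obtain ⟨β, hβ⟩ := sem_lin hA (f.A_le_S h ha) (f.A_sq ha) hσ hσi hs (hcon a ha σ hσ hσi L τ hs)
    refine ⟨β, fun w hw => ?_⟩
    rw [sem_e hA (f.A_le_S h ha) (f.A_sq ha) hσ hσi hs hw, hβ]
  obtain ⟨a, ha, d, hd, hE⟩ := dec (M := M) h f he₀
  have hdV := f.near.DV hd
  obtain ⟨α, hα⟩ := hlin a ha
  have h1 : M.e d i 1 ≠ 0 := by
    rw [hE, hα v hv.1, Pi.add_apply, Pi.add_apply, Pi.add_apply]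
    simp only [Pi.smul_apply, smul_eq_mul, Matrix.cons_val_one, Matrix.cons_val_zero, mul_zero, add_zero]
    rw [CharTwo.add_self_eq_zero, zero_add]
    exact he₀i
  obtain ⟨β, hβ⟩ := hlin b hb
  have h2 := hβ d hdV
  rw [f.D_fix hb hd] at h2
  have h3 := congrFun h2 0
  simp only [Pi.add_apply, Pi.smul_apply, smul_eq_mul, Matrix.cons_val_zero, mul_one] at h3
  have h4 : M.e d i 1 * β = 0 := left_eq_add.1 h3
  have h5 : β = 0 := (mul_eq_zero.1 h4).resolve_left h1
  refine f.mem_D hb ?_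
  obtain ⟨σ, hσ⟩ := M.perm b (AP h f hb)
  have hσi := hfix b hb σ hσ
  have h6 : b * v * b⁻¹ ∈ fac M {i} := by
    have := conj_fac hA hσ (AP h f hb) hv
    rwa [hσi] at this
  apply eq_of_comp h6 hv
  rw [hβ v hv.1, h5, mul_zero, zero_smul, add_zero]

/-- `D ∩ V_m ≠ 1` for `m ≠ i` -/
theorem exists_D (hL : Ln M ≤ EE (S : Subgroup G) P) {m : Fin k} (hm : m ≠ i) :
    ∃ x ∈ DD (S : Subgroup G) P g, x ∈ fac M {m} ∧ M.e x m ≠ 0 := by
  classical
  have hA := amb h
  obtain ⟨a, ha, σ, hσ, hσi, L, τ, hs, c, hc⟩ := exists_nonlin h f hv hfix he₀ he₀i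
  have haP := AP h f ha
  have hLe : ∀ w ∈ zl (S : Subgroup G) P, M.e (a * w * a⁻¹) i = L (M.e w i) := fun w hw =>
    sem_e hA (f.A_le_S h ha) (f.A_sq ha) hσ hσi hs hw
  -- an element of `E ∩ V_i` outside the line
  obtain ⟨e₁, he₁, he₁i, he₁1⟩ : ∃ e₁ ∈ EE (S : Subgroup G) P, e₁ ∈ fac M {i} ∧ M.e e₁ i 1 ≠ 0 := by
    have hx : ∃ x : Fin 2 → F, L x 1 ≠ x 1 := by
      by_contra hcon
      push Not at hcon
      apply hc
      have h1 := hcon (c • ![0, 1])
      rw [hs.smul, Pi.smul_apply, hcon, Pi.smul_apply] at h1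
      simpa using h1
    obtain ⟨x, hx⟩ := hx
    obtain ⟨w, hw, hwx⟩ := exists_fac M {i} fun _ => x
    have hwx := hwx i rfl
    have h1 : a * w * a⁻¹ ∈ fac M {i} := by
      have := conj_fac hA hσ haP hw
      rwa [hσi] at this
    refine ⟨w * (a * w * a⁻¹), f.comm_mem hw.1 ha, mul_mem hw h1, ?_⟩
    rw [M.mul w hw.1 _ h1.1, Pi.add_apply, Pi.add_apply, hLe w hw.1, hwx]
    intro h2
    apply hx
    have h3 : x 1 + L x 1 + L x 1 = L x 1 := by rw [h2, zero_add]
    rw [add_assoc, CharTwo.add_self_eq_zero, add_zero] at h3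
    exact h3.symm
  -- an element of `E ∩ V_m` outside the line
  obtain ⟨e₂, he₂, he₂m, he₂1⟩ : ∃ e₂ ∈ EE (S : Subgroup G) P, e₂ ∈ fac M {m} ∧ M.e e₂ m 1 ≠ 0 := by
    obtain ⟨t, ht, h1⟩ := M.trans i m
    obtain ⟨ρ, hρ⟩ := M.perm t (h.S_le ht)
    have h2 := Mv.unique M hA (σ := ρ) hρ (h.S_le ht) h1
    refine ⟨t * e₁ * t⁻¹, E_conj h ht he₁, h2 ▸ conj_fac hA hρ (h.S_le ht) he₁i, ?_⟩
    rw [← h2, Ne, line hA ht hρ he₁i.1]
    exact he₁1
  -- the elements of the line of `V_m`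
  have hl : ∀ b : F, ∃ l ∈ EE (S : Subgroup G) P, l ∈ fac M {m} ∧ M.e l m = ![b, 0] := by
    intro b
    obtain ⟨l, hl, hlb⟩ := exists_fac M {m} fun _ => ![b, 0]
    have hlb := hlb m rfl
    refine ⟨l, hL ⟨hl.1, fun n => ?_⟩, hl, hlb⟩
    by_cases hn : n = m
    · rw [hn, hlb]; rfl
    · rw [hl.2 n hn]; rfl
  choose l hlE hlm hlb using hl
  -- each element `e` of `E ∩ V_m` gives a fixed vector of `L`
  have hd : ∀ e ∈ EE (S : Subgroup G) P, e ∈ fac M {m} → ∃ d ∈ DD (S : Subgroup G) P g,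
      L (M.e d i) = M.e d i ∧ M.e d m = M.e e m ∧ ∀ n, n ≠ i → n ≠ m → M.e d n = 0 := by
    intro e he hem
    obtain ⟨b, hb, d, hd, hE⟩ := dec (M := M) h f he
    obtain ⟨ρ, hρ⟩ := M.perm b (AP h f hb)
    have hρi := hfix b hb ρ hρ
    have hvb : b * v * b⁻¹ ∈ fac M {i} := by
      have := conj_fac hA hρ (AP h f hb) hv
      rwa [hρi] at this
    refine ⟨d, hd, ?_, ?_, fun n hni hnm => ?_⟩
    · rw [← hLe d (f.near.DV hd), f.D_fix ha hd]
    · rw [hE, hv.2 m hm, hvb.2 m hm, zero_add, zero_add]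
    · rw [hE, hv.2 n hni, hvb.2 n hni, hem.2 n hnm]
      simp
  let ψ : Option F → G := fun o => o.elim e₂ l
  have hψE : ∀ o, ψ o ∈ EE (S : Subgroup G) P := by
    rintro (_ | b)
    · exact he₂
    · exact hlE b
  have hψm : ∀ o, ψ o ∈ fac M {m} := by
    rintro (_ | b)
    · exact he₂m
    · exact hlm b
  have hψi : ∀ o o', M.e (ψ o) m = M.e (ψ o') m → o = o' := by
    rintro (_ | b) (_ | b') h1
    · rfl
    · exfalso
      apply he₂1
      have h2 : M.e e₂ m = M.e (l b') m := h1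
      rw [h2, hlb]
      rfl
    · exfalso
      apply he₂1
      have h2 : M.e (l b) m = M.e e₂ m := h1
      rw [← h2, hlb]
      rfl
    · have h2 : M.e (l b) m = M.e (l b') m := h1
      rw [hlb, hlb] at h2
      have h3 : b = b' := congrFun h2 0
      rw [h3]
  choose δ hδD hδL hδm hδ0 using fun o => hd (ψ o) (hψE o) (hψm o)
  let C : Type := {x : Fin 2 → F // L x = x}
  have hfin : Finite C := Subtype.finite
  -- `|C| ≤ |F|`
  have hC : Nat.card C ≤ Nat.card F := by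
    have hadd : ∀ x y : C, L (x.1 + y.1) = x.1 + y.1 := fun x y => by rw [hs.add, x.2, y.2]
    have h1 : Function.Injective (fun p : C × C => (p.1.1 + c • p.2.1 : Fin 2 → F)) := by
      rintro ⟨x, y⟩ ⟨x', y'⟩ hxy
      have hxy : x.1 + c • y.1 = x'.1 + c • y'.1 := hxy
      have h2 : x.1 + x'.1 = c • (y.1 + y'.1) := by
        calc x.1 + x'.1 = (x.1 + c • y.1) + (x'.1 + c • y.1) := by
              rw [add_add_add_comm, add_self' (c • y.1), add_zero]
          _ = (x'.1 + c • y'.1) + (x'.1 + c • y.1) := by rw [hxy]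
          _ = c • (y.1 + y'.1) := by
              rw [add_add_add_comm, add_self' x'.1, zero_add, smul_add, add_comm]
      have h3 : L (x.1 + x'.1) = x.1 + x'.1 := hadd x x'
      rw [h2, hs.smul, hadd y y'] at h3
      have h4 : y.1 + y'.1 = 0 := by
        by_contra h0
        exact hc (smul_left_injective F h0 h3)
      have h5 : y = y' := Subtype.ext (add_eq_zero_iff'.1 h4)
      have h6 : x = x' := by
        rw [h4, smul_zero] at h2
        exact Subtype.ext (add_eq_zero_iff'.1 h2)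
      rw [h5, h6]
    have h2 := Nat.card_le_card_of_injective _ h1
    rw [Nat.card_prod, Nat.card_fun, Nat.card_eq_fintype_card (α := Fin 2), Fintype.card_fin, pow_two] at h2
    exact Nat.mul_self_le_mul_self_iff.1 h2
  have hlt : Nat.card C < Nat.card (Option F) := by
    rw [Finite.card_option]
    omega
  let χ : Option F → C := fun o => ⟨M.e (δ o) i, hδL o⟩
  obtain ⟨o, o', hne, heq⟩ : ∃ o o', o ≠ o' ∧ χ o = χ o' := by
    by_contra hcon
    push Not at hcon
    have h1 : Function.Injective χ := fun o o' h' => by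
      by_contra h2
      exact hcon o o' h2 h'
    exact absurd (Nat.card_le_card_of_injective _ h1) (not_le.2 hlt)
  have heq' : M.e (δ o) i = M.e (δ o') i := congrArg Subtype.val heq
  have hV : ∀ o, δ o ∈ zl (S : Subgroup G) P := fun o => f.near.DV (hδD o)
  refine ⟨δ o * δ o', mul_mem (hδD o) (hδD o'), ⟨mul_mem (hV o) (hV o'), fun n hn => ?_⟩, ?_⟩
  · rw [M.mul _ (hV o) _ (hV o'), Pi.add_apply]
    by_cases hni : n = i
    · rw [hni, heq', add_self']
    · rw [hδ0 o n hni hn, hδ0 o' n hni hn, add_zero]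
  · rw [M.mul _ (hV o) _ (hV o'), Pi.add_apply, hδm, hδm]
    intro h0
    exact hne (hψi o o' (add_eq_zero_iff'.1 h0))

/-- **The elements of `A` cannot fix the summand of `v`, if `E` is not the sum of the lines.** -/
theorem fix_false (hk : 2 ≤ k) (hL : Ln M ≤ EE (S : Subgroup G) P) : False := by
  classical
  have hA := amb h
  obtain ⟨m₀, hm₀⟩ : ∃ m₀ : Fin k, ¬ i = m₀ := by
    by_cases h0 : i = ⟨0, by omega⟩
    · exact ⟨⟨1, by omega⟩, fun h1 => by
        have h2 := congrArg Fin.val (h0.symm.trans h1)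
        exact absurd h2 (by simp)⟩
    · exact ⟨_, h0⟩
  obtain ⟨B, hB, hBi⟩ := exists_blk (M := M) hA S.isPGroup' (fun a b : Fin k => a = b) (fun _ => rfl)
    (fun _ _ _ h1 h2 => h1.trans h2) (fun _ _ σ _ a b hab => congrArg σ hab) hm₀
  have hiB : i ∉ B := hBi i rfl
  have hD : ∀ m : Fin k, m ∈ B → ∃ x ∈ DD (S : Subgroup G) P g, x ∈ fac M {m} ∧ M.e x m ≠ 0 := by
    intro m hm
    exact exists_D h f hv hfix he₀ he₀i hL fun h' => hiB (h' ▸ hm)
  choose! x hxD hxm hx0 using hD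
  obtain ⟨u, hu, hue⟩ := exists_fac M B fun m => M.e (x m) m
  have huD : u ∈ DD (S : Subgroup G) P g := by
    refine mem_of_comps (M := M) hu.1 fun m => ?_
    by_cases hm : m ∈ B
    · exact ⟨x m, hxD m hm, hxm m hm, (hue m hm).symm⟩
    · refine ⟨1, one_mem _, one_mem _, ?_⟩
      rw [hu.2 m hm, e_one]
      rfl
  have h6 := (app_nat h.ctx.char2 S hA hB hu fun m hm => by
    rw [hue m hm]
    exact hx0 m hm).1
  exact f.not_mem_o2_centralizer huD (h6 ⟨hv.1, fun m hm => hv.2 m fun h' => hm (by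
    rw [show m = i from h']
    exact hiB)⟩)

end fix

end Cfsg.Agent.Omega.NO1.Many
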