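import Cfsg.Agent.Omega.NO1.Many.Aff
import Cfsg.Agent.Omega.NO1.Types
import Cfsg.Agent.Omega.Half.AppNat

/-!
# `V_P` the sum of two natural `SL₂(2)`-modules: type `Plus2`

`plus2_of` : `Cfg S P`, `NatK F S P V (cv S P) 2`, `|F| = 2` imply `∃ z, Plus2 S P z`.
The nine vectors are `z i j = A (i + j) B (i - j)`, `A`, `B` the nonzero vectors of the summands.
-/

set_option autoImplicit false
set_option linter.unusedSectionVars false

namespace Cfsg.Agent.Omega.NO1.Many

open Subgroup Cfsg Cfsg.Agent.ZN Cfsg.Agent.Omega.MinPar Cfsg.Agent.Omega.Frame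
open Cfsg.Agent.Omega.FFThm (NatK)
open Cfsg.Agent.Omega.FrameFF (cv)
open Cfsg.Agent.Omega.Half Cfsg.Agent.Omega.Half.NatA
open Cfsg.Agent.Lib.SL2Mat Cfsg.Agent.Omega.NatPair

universe u

section abs

variable {G : Type u} [Group G] {F : Type} [Field F] [CharP F 2] {T H V : Subgroup G}
  (M : NatK F T H V ⊥ 2)

/-- the vector with coordinates `x`, `y` -/
noncomputable def vc (x y : Fin 2 → F) : G := (M.surj ![x, y]).choose

theorem vc_mem (x y : Fin 2 → F) : vc M x y ∈ V := (M.surj ![x, y]).choose_spec.1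

theorem e_vc (x y : Fin 2 → F) : M.e (vc M x y) = ![x, y] := (M.surj ![x, y]).choose_spec.2

theorem vc_add (x y x' y' : Fin 2 → F) : vc M x y * vc M x' y' = vc M (x + x') (y + y') := by
  apply inj M (mul_mem (vc_mem M _ _) (vc_mem M _ _)) (vc_mem M _ _)
  rw [M.mul _ (vc_mem M _ _) _ (vc_mem M _ _), e_vc, e_vc, e_vc]
  funext i
  fin_cases i <;> rfl

theorem vc_inj {x y x' y' : Fin 2 → F} (h : vc M x y = vc M x' y') : x = x' ∧ y = y' := by
  have h1 := congrArg M.e h
  rw [e_vc, e_vc] at h1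
  exact ⟨congrFun h1 0, congrFun h1 1⟩

theorem vc_zero : vc M 0 0 = 1 := by
  apply eq_one M (vc_mem M _ _)
  rw [e_vc]
  funext i
  fin_cases i <;> rfl

theorem eq_vc {v : G} (hv : v ∈ V) : v = vc M (M.e v 0) (M.e v 1) := by
  apply inj M hv (vc_mem M _ _)
  rw [e_vc]
  funext i
  fin_cases i <;> rfl

/-- the nine singular vectors -/
noncomputable def zz (i j : Fin 3) : G := vc M (av F (i + j)) (av F (i - j))

theorem zz_mem (i j : Fin 3) : zz M i j ∈ V := vc_mem M _ _

/-- `m` acts without interchange of the summands -/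
def ActN (m : G) (φ ψ : Fin 3 → Fin 3) : Prop :=
  ∀ p r, m * vc M (av F p) (av F r) * m⁻¹ = vc M (av F (φ p)) (av F (ψ r))

/-- `m` acts with interchange of the summands -/
def ActS (m : G) (φ ψ : Fin 3 → Fin 3) : Prop :=
  ∀ p r, m * vc M (av F p) (av F r) * m⁻¹ = vc M (av F (ψ r)) (av F (φ p))

variable (hA : Amb T H V) (hF : ∀ c : F, c = 0 ∨ c = 1)

include hA in
theorem vc_comm (x y x' y' : Fin 2 → F) : vc M x y * vc M x' y' = vc M x' y' * vc M x y :=
  hA.comm _ (vc_mem M _ _) _ (vc_mem M _ _)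

theorem add_self (x : Fin 2 → F) : x + x = 0 := by
  funext i
  exact CharTwo.add_self_eq_zero _

include hA in
/-- each permutation pair is induced -/
theorem exists_actN {φ ψ : Fin 3 → Fin 3} (hφ : Function.Injective φ) (hψ : Function.Injective ψ) :
    ∃ m ∈ H, ActN M m φ ψ := by
  obtain ⟨A, hA1⟩ := exists_sl (F := F) hφ
  obtain ⟨B, hB1⟩ := exists_sl (F := F) hψ
  obtain ⟨g, hg, hgA, -⟩ := M.lift ![A, B]
  refine ⟨g, hg, fun p r => ?_⟩
  have h1 : M.e (g * vc M (av F p) (av F r) * g⁻¹) = ![av F (φ p), av F (ψ r)] := by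
    funext i
    rw [hgA _ (vc_mem M _ _) i, e_vc]
    fin_cases i
    · exact hA1 p
    · exact hB1 r
  have hV : g * vc M (av F p) (av F r) * g⁻¹ ∈ V := hA.conj_mem hg (vc_mem M _ _)
  apply inj M hV (vc_mem M _ _)
  rw [h1, e_vc]

include hA hF

/-- every element of `H` acts by a pair of permutations -/
theorem exists_act {m : G} (hm : m ∈ H) : ∃ φ ψ : Fin 3 → Fin 3,
    Function.Injective φ ∧ Function.Injective ψ ∧ (ActN M m φ ψ ∨ ActS M m φ ψ) := by
  obtain ⟨π, hπ⟩ := M.perm m hm
  have hcj : ∀ v ∈ V, m * v * m⁻¹ ∈ V := fun v hv => hA.conj_mem hm hv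
  -- images of the vectors of the two summands
  have hA0 : ∀ p, M.e (m * vc M (av F p) 0 * m⁻¹) (π 0) ≠ 0 ∧ M.e (m * vc M (av F p) 0 * m⁻¹) (π 1) = 0 := by
    intro p
    rw [Ne, hπ _ (vc_mem M _ _) 0, hπ _ (vc_mem M _ _) 1, e_vc]
    exact ⟨av_ne_zero p, rfl⟩
  have hB0 : ∀ r, M.e (m * vc M 0 (av F r) * m⁻¹) (π 0) = 0 ∧ M.e (m * vc M 0 (av F r) * m⁻¹) (π 1) ≠ 0 := by
    intro r
    rw [Ne, hπ _ (vc_mem M _ _) 0, hπ _ (vc_mem M _ _) 1, e_vc]
    exact ⟨rfl, av_ne_zero r⟩
  have h1 : ∀ p, ∃ q, M.e (m * vc M (av F p) 0 * m⁻¹) (π 0) = av F q := fun p => exists_av hF (hA0 p).1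
  have h2 : ∀ r, ∃ q, M.e (m * vc M 0 (av F r) * m⁻¹) (π 1) = av F q := fun r => exists_av hF (hB0 r).2
  choose φ hφ using h1
  choose ψ hψ using h2
  have hsplit : ∀ x y : Fin 2 → F, m * vc M x y * m⁻¹ = (m * vc M x 0 * m⁻¹) * (m * vc M 0 y * m⁻¹) := by
    intro x y
    have h := vc_add M x 0 0 y
    rw [add_zero, zero_add] at h
    rw [← h]
    group
  have hcases : (π 0 = 0 ∧ π 1 = 1) ∨ (π 0 = 1 ∧ π 1 = 0) := by
    have hne : π 0 ≠ π 1 := fun h => absurd (π.injective h) (by decide)
    generalize π 0 = a at hne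
    generalize π 1 = b at hne
    revert a b
    decide
  have hmain : ∀ p r, M.e (m * vc M (av F p) (av F r) * m⁻¹) (π 0) = av F (φ p) ∧
      M.e (m * vc M (av F p) (av F r) * m⁻¹) (π 1) = av F (ψ r) := by
    intro p r
    rw [hsplit, M.mul _ (hcj _ (vc_mem M _ _)) _ (hcj _ (vc_mem M _ _)), Pi.add_apply, Pi.add_apply,
      hφ, hψ, (hA0 p).2, (hB0 r).1, add_zero, zero_add]
    exact ⟨rfl, rfl⟩
  have hact : ActN M m φ ψ ∨ ActS M m φ ψ := by
    rcases hcases with ⟨h0, h1⟩ | ⟨h0, h1⟩
    · left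
      intro p r
      apply inj M (hcj _ (vc_mem M _ _)) (vc_mem M _ _)
      rw [e_vc]
      have h3 := hmain p r
      rw [h0, h1] at h3
      funext i
      fin_cases i
      · exact h3.1
      · exact h3.2
    · right
      intro p r
      apply inj M (hcj _ (vc_mem M _ _)) (vc_mem M _ _)
      rw [e_vc]
      have h3 := hmain p r
      rw [h0, h1] at h3
      funext i
      fin_cases i
      · exact h3.2
      · exact h3.1
  have hφi : Function.Injective φ := by
    intro p p' h
    rcases hact with ha | ha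
    · have h3 := ha p 0
      have h4 := ha p' 0
      rw [h] at h3
      have h5 := mul_left_cancel (mul_right_cancel (h3.trans h4.symm))
      exact av_injective (vc_inj M h5).1
    · have h3 := ha p 0
      have h4 := ha p' 0
      rw [h] at h3
      have h5 := mul_left_cancel (mul_right_cancel (h3.trans h4.symm))
      exact av_injective (vc_inj M h5).1
  have hψi : Function.Injective ψ := by
    intro p p' h
    rcases hact with ha | ha
    · have h3 := ha 0 p
      have h4 := ha 0 p'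
      rw [h] at h3
      have h5 := mul_left_cancel (mul_right_cancel (h3.trans h4.symm))
      exact av_injective (vc_inj M h5).2
    · have h3 := ha 0 p
      have h4 := ha 0 p'
      rw [h] at h3
      have h5 := mul_left_cancel (mul_right_cancel (h3.trans h4.symm))
      exact av_injective (vc_inj M h5).2
  exact ⟨φ, ψ, hφi, hψi, hact⟩

/-- each permutation pair with interchange is induced -/
theorem exists_actS {φ ψ : Fin 3 → Fin 3} (hφ : Function.Injective φ) (hψ : Function.Injective ψ) :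
    ∃ m ∈ H, ActS M m φ ψ := by
  obtain ⟨t, ht, h1⟩ := M.trans 0 1
  have htH := hA.TH ht
  obtain ⟨α, β, hα, hβ, ha⟩ := exists_act M hA hF htH
  have ha' : ActS M t α β := by
    rcases ha with ha | ha
    · exfalso
      -- then `t` fixes the summand 0
      obtain ⟨π, hπ⟩ := M.perm t htH
      have h2 : π 0 = 1 := Mv.unique M hA (σ := π) hπ htH h1
      have e1 := ha 0 0
      have e2 := ha 0 1
      -- `t (0, a₀ + a₁) t⁻¹`
      have h3 : vc M (av F 0) (av F 0) * vc M (av F 0) (av F 1) = vc M 0 (av F 2) := by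
        rw [vc_add, add_self, av_add 0 1 (by decide)]
        rfl
      have h4 : t * vc M 0 (av F 2) * t⁻¹ = vc M 0 (av F (β 0) + av F (β 1)) := by
        rw [← h3]
        calc t * (vc M (av F 0) (av F 0) * vc M (av F 0) (av F 1)) * t⁻¹ =
            (t * vc M (av F 0) (av F 0) * t⁻¹) * (t * vc M (av F 0) (av F 1) * t⁻¹) := by group
          _ = _ := by rw [e1, e2, vc_add, add_self]
      have h5 := hπ (vc M 0 (av F 2)) (vc_mem M _ _) 0
      rw [h2, h4, e_vc, e_vc] at h5
      have h6 : av F (β 0) + av F (β 1) = 0 := h5.2 rfl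
      have h7 : β 0 ≠ β 1 := fun h => absurd (hβ h) (by decide)
      rw [av_add _ _ h7] at h6
      exact av_ne_zero _ h6
    · exact ha
  -- correct by an element of the first kind
  have hinv : ∀ α : Fin 3 → Fin 3, Function.Injective α → ∃ α' : Fin 3 → Fin 3, Function.Injective α' ∧
      ∀ x, α' (α x) = x := by
    intro α hα
    let e := Equiv.ofBijective α (Finite.injective_iff_bijective.1 hα)
    exact ⟨e.symm, e.symm.injective, fun x => e.symm_apply_apply x⟩
  obtain ⟨α', hα', h3⟩ := hinv α hα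
  obtain ⟨β', hβ', h4⟩ := hinv β hβ
  obtain ⟨n, hn, hn1⟩ := exists_actN M hA (φ := ψ ∘ β') (ψ := φ ∘ α') (hψ.comp hβ') (hφ.comp hα')
  refine ⟨n * t, mul_mem hn htH, fun p r => ?_⟩
  calc n * t * vc M (av F p) (av F r) * (n * t)⁻¹ = n * (t * vc M (av F p) (av F r) * t⁻¹) * n⁻¹ := by group
    _ = n * vc M (av F (β r)) (av F (α p)) * n⁻¹ := by rw [ha' p r]
    _ = vc M (av F (ψ r)) (av F (φ p)) := by
      rw [hn1, Function.comp_apply, Function.comp_apply, h3, h4]

omit hA hF in
theorem zz_row (i : Fin 3) : zz M i 0 * zz M i 1 * zz M i 2 = 1 := by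
  rw [zz, zz, zz, vc_add, vc_add, ← vc_zero M]
  have h1 : av F (i + 0) + av F (i + 1) + av F (i + 2) = 0 := by
    rw [av_add _ _ (by clear * -; revert i; decide)]
    have : (2 : Fin 3) * (i + 0 + (i + 1)) = i + 2 := by clear * -; revert i; decide
    rw [this, add_self]
  have h2 : av F (i - 0) + av F (i - 1) + av F (i - 2) = 0 := by
    rw [av_add _ _ (by clear * -; revert i; decide)]
    have : (2 : Fin 3) * (i - 0 + (i - 1)) = i - 2 := by clear * -; revert i; decide
    rw [this, add_self]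
  rw [h1, h2]

omit hA hF in
theorem zz_col (j : Fin 3) : zz M 0 j * zz M 1 j * zz M 2 j = 1 := by
  rw [zz, zz, zz, vc_add, vc_add, ← vc_zero M]
  have h1 : av F (0 + j) + av F (1 + j) + av F (2 + j) = 0 := by
    rw [av_add _ _ (by clear * -; revert j; decide)]
    have : (2 : Fin 3) * (0 + j + (1 + j)) = 2 + j := by clear * -; revert j; decide
    rw [this, add_self]
  have h2 : av F (0 - j) + av F (1 - j) + av F (2 - j) = 0 := by
    rw [av_add _ _ (by clear * -; revert j; decide)]
    have : (2 : Fin 3) * (0 - j + (1 - j)) = 2 - j := by clear * -; revert j; decide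
    rw [this, add_self]
  rw [h1, h2]

omit hA in
theorem zz_gen : closure (Set.range fun x : Fin 3 × Fin 3 => zz M x.1 x.2) = V := by
  set K := closure (Set.range fun x : Fin 3 × Fin 3 => zz M x.1 x.2) with hK
  have hz : ∀ i j, zz M i j ∈ K := fun i j => subset_closure ⟨(i, j), rfl⟩
  have hpr : ∀ p r, vc M (av F p) (av F r) ∈ K := by
    intro p r
    have h1 := hz (2 * (p + r)) (r - (r - (2 * (p + r) - r)) - (2 * (p + r) - r) + (p - 2 * (p + r)))
    have h2 : zz M (2 * (p + r)) (r - (r - (2 * (p + r) - r)) - (2 * (p + r) - r) + (p - 2 * (p + r))) =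
        vc M (av F p) (av F r) := by
      rw [zz]
      congr 2
      · clear h1; revert p r; decide
      · clear h1; revert p r; decide
    rwa [h2] at h1
  have h0 : ∀ p, vc M (av F p) 0 ∈ K := by
    intro p
    have h := mul_mem (mul_mem (hpr p 0) (hpr p 1)) (hpr p 2)
    rw [vc_add, vc_add, add_self, zero_add, av_add 0 1 (by decide)] at h
    have e : (2 : Fin 3) * (0 + 1) = 2 := by decide
    rwa [e, add_self] at h
  have h1 : ∀ p, vc M 0 (av F p) ∈ K := by
    intro p
    have h := mul_mem (mul_mem (hpr 0 p) (hpr 1 p)) (hpr 2 p)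
    rw [vc_add, vc_add, add_self, zero_add, av_add 0 1 (by decide)] at h
    have e : (2 : Fin 3) * (0 + 1) = 2 := by decide
    rwa [e, add_self] at h
  apply le_antisymm
  · rw [hK, closure_le]
    rintro _ ⟨x, rfl⟩
    exact zz_mem M _ _
  · intro v hv
    rw [eq_vc M hv]
    by_cases ha : M.e v 0 = 0 <;> by_cases hb : M.e v 1 = 0
    · rw [ha, hb, vc_zero]
      exact one_mem K
    · obtain ⟨q, hq⟩ := exists_av hF hb
      rw [ha, hq]
      exact h1 q
    · obtain ⟨q, hq⟩ := exists_av hF ha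
      rw [hb, hq]
      exact h0 q
    · obtain ⟨q, hq⟩ := exists_av hF ha
      obtain ⟨r, hr⟩ := exists_av hF hb
      rw [hq, hr]
      exact hpr q r

/-- The fixed vectors of `T`. -/
theorem fix_eq {v : G} (hv : v ∈ V) (hv1 : v ≠ 1) (hc : ∀ t ∈ T, t * v = v * t) : v = zz M 0 0 := by
  have hc' : ∀ t ∈ T, t * v * t⁻¹ = v := fun t ht => by rw [hc t ht, mul_inv_cancel_right]
  obtain ⟨t, ht, hta, -⟩ := M.unip fun _ => 1
  have h1 : ∀ i, M.e v i 1 = 0 := by
    intro i
    have h := hta v hv i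
    rw [hc' t ht] at h
    have h2 := congrFun h 0
    rw [ap_zero', up_00, up_01, one_mul, one_mul] at h2
    exact left_eq_add.1 h2
  have h2 : ∀ i j, M.e v j = 0 ↔ M.e v i = 0 := by
    intro i j
    obtain ⟨s, hs, h⟩ := M.trans i j
    have := h v hv
    rwa [hc' s hs] at this
  have h3 : ∀ i, M.e v i ≠ 0 := by
    intro i h0
    apply hv1
    apply eq_one M hv
    funext j
    exact (h2 i j).2 h0
  have h4 : ∀ i, M.e v i = av F 0 := by
    intro i
    have h5 : M.e v i 0 = 1 := (hF _).resolve_left fun h => h3 i (ext2 h (h1 i))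
    exact ext2 h5 (h1 i)
  rw [eq_vc M hv, h4, h4]
  rfl

end abs

section main

variable {G : Type u} [Group G] [Finite G] {S : Sylow 2 G} {P : Subgroup G}

theorem plus2_of_bot (h : Cfg S P) {F : Type} [Field F] [CharP F 2] (hF : Nat.card F = 2)
    (M : NatK F (S : Subgroup G) P (zl (S : Subgroup G) P) ⊥ 2) :
    Plus2 (S : Subgroup G) P (zz M) := by
  have hA : Amb (S : Subgroup G) P (zl (S : Subgroup G) P) := amb_of_loc h.ctx.char2 S h.loc
  have hF' : ∀ c : F, c = 0 ∨ c = 1 := by
    obtain ⟨a, b, hab, huniv⟩ := Nat.card_eq_two_iff.1 hF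
    intro c
    have h0 : (0 : F) ∈ ({a, b} : Set F) := huniv ▸ Set.mem_univ _
    have h1 : (1 : F) ∈ ({a, b} : Set F) := huniv ▸ Set.mem_univ _
    have hc : c ∈ ({a, b} : Set F) := huniv ▸ Set.mem_univ _
    simp only [Set.mem_insert_iff, Set.mem_singleton_iff] at h0 h1 hc
    have h01 : (0 : F) ≠ 1 := zero_ne_one
    rcases h0 with h0 | h0 <;> rcases h1 with h1 | h1 <;> rcases hc with hc | hc
    · exact absurd (h0.trans h1.symm) h01
    · exact absurd (h0.trans h1.symm) h01
    · left; rw [hc, h0]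
    · right; rw [hc, h1]
    · right; rw [hc, h1]
    · left; rw [hc, h0]
    · exact absurd (h0.trans h1.symm) h01
    · exact absurd (h0.trans h1.symm) h01
  have hsplit : ∀ i j k l : Fin 3, i + j = k + l → i - j = k - l → i = k ∧ j = l := by decide
  exact
    { inj := fun i j k l hz => by
        obtain ⟨h1, h2⟩ := vc_inj M hz
        exact hsplit _ _ _ _ (av_injective h1) (av_injective h2)
      ne_one := fun i j h1 => by
        rw [zz, ← vc_zero M] at h1
        exact av_ne_zero _ (vc_inj M h1).1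
      sq := fun i j => by
        have := hA.sq _ (zz_mem M i j)
        rwa [pow_two] at this
      comm := fun i j k l => hA.comm _ (zz_mem M i j) _ (zz_mem M k l)
      row := zz_row M
      col := zz_col M
      gen := zz_gen M hF'
      Z := by
        have hne : zc (S : Subgroup G) ≠ ⊥ := MinSimple.Basic.zc_ne_bot S.isPGroup' (h.ctx.sylow_ne_bot S)
        have hall : ∀ v ∈ zc (S : Subgroup G), v ≠ 1 → v = zz M 0 0 := fun v hv hv1 =>
          fix_eq M hA hF' (hA.zc hv) hv1 (MinSimple.VModule.mem_zc.1 hv).2.1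
        obtain ⟨⟨v, hv⟩, hv1⟩ := ne_bot_iff_exists_ne_one.1 hne
        have hv1' : v ≠ 1 := fun h1 => hv1 (Subtype.ext h1)
        have hz : zz M 0 0 ∈ zc (S : Subgroup G) := hall v hv hv1' ▸ hv
        apply le_antisymm
        · intro w hw
          by_cases hw1 : w = 1
          · rw [hw1]; exact one_mem _
          · rw [hall w hw hw1]; exact mem_zpowers _
        · exact zpowers_le.2 hz
      perm := fun m hm => by
        obtain ⟨φ, ψ, hφ, hψ, ha | ha⟩ := exists_act M hA hF' hm
        · obtain ⟨σ, τ, h1 | h1⟩ := exists_perm hφ hψ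
          · refine ⟨σ, τ, Or.inl fun i j => ?_⟩
            rw [zz, ha, zz, (h1 i j).1, (h1 i j).2]
          · refine ⟨σ, τ, Or.inr fun i j => ?_⟩
            rw [zz, ha, zz, (h1 i j).1, (h1 i j).2]
        · obtain ⟨σ, τ, h1 | h1⟩ := exists_perm' hφ hψ
          · refine ⟨σ, τ, Or.inl fun i j => ?_⟩
            rw [zz, ha, zz, (h1 i j).1, (h1 i j).2]
          · refine ⟨σ, τ, Or.inr fun i j => ?_⟩
            rw [zz, ha, zz, (h1 i j).1, (h1 i j).2]
      full := fun σ τ => by
        obtain ⟨φ, ψ, hφ, hψ, h1 | h1⟩ := exists_split σ τ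
        · obtain ⟨m, hm, ha⟩ := exists_actN M hA hφ hψ
          refine ⟨m, hm, fun i j => ?_⟩
          rw [zz, ha, zz, (h1 i j).1, (h1 i j).2]
        · obtain ⟨m, hm, ha⟩ := exists_actS M hA hF' hφ hψ
          refine ⟨m, hm, fun i j => ?_⟩
          rw [zz, ha, zz, (h1 i j).1, (h1 i j).2]
      swap := by
        obtain ⟨m, hm, ha⟩ := exists_actN M hA (φ := id) (ψ := fun x => -x) Function.injective_id
          neg_injective
        refine ⟨m, hm, fun i j => ?_⟩
        rw [zz, ha, zz]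
        congr 2
        · rw [id, add_comm]
        · exact neg_sub i j }

/-- **The output of `NatMany`, `k = 2`, `q = 2`.** -/
theorem plus2_of (h : Cfg S P) {F : Type} [Field F] [CharP F 2] (hF : Nat.card F = 2)
    (M : NatK F (S : Subgroup G) P (zl (S : Subgroup G) P) (cv (S : Subgroup G) P) 2) :
    ∃ z : Fin 3 → Fin 3 → G, Plus2 (S : Subgroup G) P z := by
  have hcv : cv (S : Subgroup G) P = ⊥ := h.one.cen
  rw [hcv] at M
  exact ⟨_, plus2_of_bot h hF M⟩

theorem ty_of_two (h : Cfg S P) {F : Type} [Field F] [CharP F 2] (hF : Nat.card F = 2)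
    (M : NatK F (S : Subgroup G) P (zl (S : Subgroup G) P) (cv (S : Subgroup G) P) 2) :
    Ty (S : Subgroup G) P := by
  obtain ⟨z, hz⟩ := plus2_of h hF M
  exact Ty.plus2 z hz

end main

end Cfsg.Agent.Omega.NO1.Many
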