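import Cfsg.Agent.Omega.NO1.Many.Base

/-!
# The elements of `H` act semilinearly on the summands

`exists_T` : for `g ∈ H` with permutation `σ` and every `i` there is an additive, semilinear map `T` with
`e (g v g⁻¹) (σ i) = T (e v i)`.
-/

set_option autoImplicit false
set_option linter.unusedSectionVars false

namespace Cfsg.Agent.Omega.NO1.Many

open Subgroup Cfsg Cfsg.Agent.Omega.FFThm
open Cfsg.Agent.Omega.Half Cfsg.Agent.Omega.Half.NatA
open Cfsg.Agent.Lib.SL2Mat Cfsg.Agent.Omega.NatPair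

universe u

variable {G : Type u} [Group G] {F : Type} [Field F] {T H V : Subgroup G} {k : ℕ}

/-- The action of an element of `H` on a summand. -/
structure Sem (M : NatK F T H V ⊥ k) (g : G) (σ : Equiv.Perm (Fin k)) (i : Fin k)
    (L : (Fin 2 → F) → (Fin 2 → F)) (τ : F → F) : Prop where
  add : ∀ x y, L (x + y) = L x + L y
  smul : ∀ (c : F) x, L (c • x) = τ c • L x
  e : ∀ v ∈ V, M.e (g * v * g⁻¹) (σ i) = L (M.e v i)

theorem exists_T {M : NatK F T H V ⊥ k} (hA : Amb T H V) {g : G} (hg : g ∈ H) {σ : Equiv.Perm (Fin k)}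
    (hσ : Mv M g σ) (i : Fin k) : ∃ L τ, Sem M g σ i L τ := by
  classical
  have hι : ∀ (j : Fin k) (x : Fin 2 → F), ∃ v ∈ fac M {j}, M.e v j = x := by
    intro j x
    obtain ⟨v, hv, h⟩ := exists_fac M {j} fun _ => x
    exact ⟨v, hv, h j rfl⟩
  choose ι hι1 hι2 using hι
  have hσ' := Mv.inv M hA (σ := σ) hσ hg
  have hgi : g⁻¹ ∈ H := inv_mem hg
  set L : (Fin 2 → F) → (Fin 2 → F) := fun x => M.e (g * ι i x * g⁻¹) (σ i) with hL
  set L' : (Fin 2 → F) → (Fin 2 → F) := fun y => M.e (g⁻¹ * ι (σ i) y * g) i with hL'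
  have he : ∀ v ∈ V, M.e (g * v * g⁻¹) (σ i) = L (M.e v i) := by
    intro v hv
    exact comp_eq hA hσ hg hv (hι1 i _).1 (hι2 i _).symm
  have he' : ∀ v ∈ V, M.e (g⁻¹ * v * g) i = L' (M.e v (σ i)) := by
    intro v hv
    have h1 := comp_eq hA hσ' hgi hv (hι1 (σ i) (M.e v (σ i))).1 (hι2 (σ i) _).symm
    rw [Equiv.symm_apply_apply, inv_inv] at h1
    exact h1
  have hadd : ∀ x y, L (x + y) = L x + L y := by
    intro x y
    have h1 : M.e (ι i x * ι i y) i = x + y := by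
      rw [M.mul _ (hι1 i x).1 _ (hι1 i y).1, Pi.add_apply, hι2, hι2]
    rw [← h1, ← he _ (mul_mem (hι1 i x).1 (hι1 i y).1)]
    have e1 : g * (ι i x * ι i y) * g⁻¹ = (g * ι i x * g⁻¹) * (g * ι i y * g⁻¹) := by group
    rw [e1, M.mul _ (hA.conj_mem hg (hι1 i x).1) _ (hA.conj_mem hg (hι1 i y).1)]
    rfl
  have h1 : ∀ x, L' (L x) = x := by
    intro x
    rw [hL]
    change L' (M.e (g * ι i x * g⁻¹) (σ i)) = x
    rw [← he' _ (hA.conj_mem hg (hι1 i x).1)]
    have e1 : g⁻¹ * (g * ι i x * g⁻¹) * g = ι i x := by group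
    rw [e1, hι2]
  have h2 : ∀ x, L (L' x) = x := by
    intro x
    change L (M.e (g⁻¹ * ι (σ i) x * g) i) = x
    rw [← he _ (conj_mem' hA hg (hι1 (σ i) x).1)]
    have e1 : g * (g⁻¹ * ι (σ i) x * g) * g⁻¹ = ι (σ i) x := by group
    rw [e1, hι2]
  have hn : ∀ A : Matrix.SpecialLinearGroup (Fin 2) F, ∃ B : Matrix.SpecialLinearGroup (Fin 2) F,
      ∀ x, L' (ap A (L x)) = ap B x := by
    intro A
    obtain ⟨h, hh, hhA, -⟩ := M.lift (Function.update 1 (σ i) A)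
    obtain ⟨B, hB⟩ := M.norm g⁻¹ hgi h hh _ hhA
    refine ⟨B i, fun x => ?_⟩
    have h3 : M.e (h * (g * ι i x * g⁻¹) * h⁻¹) (σ i) = ap A (L x) := by
      rw [hhA _ (hA.conj_mem hg (hι1 i x).1) (σ i), Function.update_self]
    rw [← h3, ← he' _ (hA.conj_mem hh (hA.conj_mem hg (hι1 i x).1))]
    have h4 := hB (ι i x) (hι1 i x).1 i
    rw [hι2] at h4
    rw [← h4]
    congr 1
    group
  obtain ⟨τ, hτ⟩ := NatPair.exists_semi L L' hadd h1 h2 hn
  exact ⟨L, τ, hadd, hτ, he⟩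

namespace Sem

variable {M : NatK F T H V ⊥ k} {g : G} {σ : Equiv.Perm (Fin k)} {i : Fin k}
  {L : (Fin 2 → F) → (Fin 2 → F)} {τ : F → F} (s : Sem M g σ i L τ) (hσ : Mv M g σ)

include s hσ

theorem inj {x : Fin 2 → F} (h : L x = 0) : x = 0 := by
  obtain ⟨v, hv, hx⟩ := exists_fac M {i} fun _ => x
  have hx := hx i rfl
  rw [← hx] at h ⊢
  rw [← s.e v hv.1] at h
  exact (hσ v hv.1 i).1 h

theorem tau_add (c d : F) : τ (c + d) = τ c + τ d := by
  have h1 : L ![1, 0] ≠ 0 := fun h => one_ne_zero (congrFun (s.inj hσ h) 0)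
  have h2 : τ (c + d) • L ![1, 0] = (τ c + τ d) • L ![1, 0] := by
    rw [← s.smul, add_smul, s.add, s.smul, s.smul, ← add_smul]
  exact smul_left_injective F h1 h2

theorem tau_one : τ 1 = 1 := by
  have h1 : L ![1, 0] ≠ 0 := fun h => one_ne_zero (congrFun (s.inj hσ h) 0)
  have h2 : τ 1 • L ![1, 0] = (1 : F) • L ![1, 0] := by
    rw [← s.smul, one_smul, one_smul]
  exact smul_left_injective F h1 h2

end Sem

end Cfsg.Agent.Omega.NO1.Many
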