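import Cfsg.Agent.Omega.NO1.Many.Semi

/-!
# The leaf N1, `V_P` a sum of `k ≥ 2` natural modules, `Q` moves a summand (text helper727 #14576 (1), (2), (4))

`v ∈ V_i - E`, a frame at `v`, `f₁ ∈ A = E^g` moves `V_i` to `V_j`, `j ≠ i`; the lines lie in `E`.
`Swap.main` : `|F| = 2` and `k = 2`.
-/

set_option autoImplicit false
set_option linter.unusedSectionVars false

namespace Cfsg.Agent.Omega.NO1.Many

open Subgroup Cfsg Cfsg.Agent.ZN Cfsg.Agent.Omega.MinPar Cfsg.Agent.Omega.Frame Cfsg.Agent.Omega.FFThm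
open Cfsg.Agent.Omega.NoFF.LinesPlug (CC NoOne)
open Cfsg.Agent.Omega.Half Cfsg.Agent.Omega.Half.NatA
open Cfsg.Agent.Lib.SL2Mat Cfsg.Agent.Omega.NatPair
open scoped Pointwise

universe u

variable {G : Type u} [Group G] [Finite G] {S : Sylow 2 G} {P : Subgroup G}

theorem amb (h : Cfg S P) : Amb (S : Subgroup G) P (zl (S : Subgroup G) P) :=
  amb_of_loc h.ctx.char2 S h.loc

/-- `E` is normalised by `S`. -/
theorem E_conj (h : Cfg S P) {t e : G} (ht : t ∈ (S : Subgroup G)) (he : e ∈ EE (S : Subgroup G) P) :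
    t * e * t⁻¹ ∈ EE (S : Subgroup G) P := by
  refine mem_inf.2 ⟨(amb h).conj_mem (h.S_le ht) he.1, ?_⟩
  exact (mem_normalizer_iff.1 (le_normalizer_o2 _ (Cfg.S_le_CC S ht)) e).1 he.2

section fam

variable (h : Cfg S P) {F : Type} [Field F] [CharP F 2] {k : ℕ}
  {M : NatK F (S : Subgroup G) P (zl (S : Subgroup G) P) ⊥ k} {v g : G} (f : Fam S P v g)

include h

include f in
/-- the decomposition `E = [v, A] D` in coordinates -/
theorem dec {e : G} (he : e ∈ EE (S : Subgroup G) P) : ∃ a ∈ AA (S : Subgroup G) P g,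
    ∃ d ∈ DD (S : Subgroup G) P g, ∀ m, M.e d m = M.e v m + M.e (a * v * a⁻¹) m + M.e e m := by
  obtain ⟨a, ha, d, hd, h1⟩ := f.exists_eq he
  have hA := amb h
  have hav : a * v * a⁻¹ ∈ zl (S : Subgroup G) P := hA.conj_mem (h.S_le (f.A_le_S h ha)) f.mem
  refine ⟨a, ha, d, hd, fun m => ?_⟩
  have h2 : M.e e m = M.e v m + M.e (a * v * a⁻¹) m + M.e d m := by
    rw [h1, M.mul _ (mul_mem f.mem hav) _ (f.near.DV hd), M.mul _ f.mem _ hav]
    rfl
  rw [h2]
  have e2 : ∀ x y : Fin 2 → F, x + y + (x + y + M.e d m) = M.e d m := by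
    intro x y
    rw [← add_assoc, show x + y + (x + y) = 0 from funext fun _ => CharTwo.add_self_eq_zero _, zero_add]
  exact (e2 _ _).symm

include f in
theorem AP {a : G} (ha : a ∈ AA (S : Subgroup G) P g) : a ∈ P := h.S_le (f.A_le_S h ha)

include f in
/-- the permutation of an element of `A` is an involution -/
theorem mv_sq {a : G} (ha : a ∈ AA (S : Subgroup G) P g) {σ : Equiv.Perm (Fin k)} (hσ : Mv M a σ) (m : Fin k) :
    σ (σ m) = m := by
  have hA := amb h
  have h1 := mv_mul hA (AP h f ha) hσ hσ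
  rw [f.A_sq ha] at h1
  refine Mv.unique M hA (σ := σ * σ) h1 (one_mem P) fun w _ => ?_
  rw [one_mul, inv_one, mul_one]

omit h in
theorem add_eq_zero_iff' {x y : Fin 2 → F} : x + y = 0 ↔ x = y := by
  constructor
  · intro h0
    have h1 : x + y + y = y := by rw [h0, zero_add]
    rwa [add_assoc, show y + y = 0 from funext fun _ => CharTwo.add_self_eq_zero _, add_zero] at h1
  · rintro rfl
    exact funext fun _ => CharTwo.add_self_eq_zero _

end fam

/-! ### `A` moves the summand of `v` -/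

section swap

variable (h : Cfg S P) {F : Type} [Field F] [CharP F 2] {k : ℕ}
  {M : NatK F (S : Subgroup G) P (zl (S : Subgroup G) P) ⊥ k} {v g : G} (f : Fam S P v g)
  {i j : Fin k} (hv : v ∈ fac M {i}) {f1 : G} (hf1 : f1 ∈ AA (S : Subgroup G) P g)
  {σ1 : Equiv.Perm (Fin k)} (hσ1 : Mv M f1 σ1) (hij : σ1 i = j) (hne : j ≠ i)

include h f hv hf1 hσ1 hij hne

theorem v_ne_one : v ≠ 1 := fun h1 => f.notMem (h1 ▸ one_mem _)

theorem sigma_j : σ1 j = i := by rw [← hij]; exact mv_sq h f hf1 hσ1 i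

/-- The orbit of `i` is `{i, j}`. -/
theorem orbit {b : G} (hb : b ∈ AA (S : Subgroup G) P g) {σ : Equiv.Perm (Fin k)} (hσ : Mv M b σ) :
    σ i = i ∨ σ i = j := by
  have hA := amb h
  by_contra hcon
  push Not at hcon
  obtain ⟨hmi, hmj⟩ := hcon
  have hv1 := v_ne_one h f hv hf1 hσ1 hij hne
  have hvi := comp_ne_zero hv hv1
  obtain ⟨y, hy0, hy1⟩ := exists_ne_ne (M.e v i)
  obtain ⟨w, hw, hwy⟩ := exists_fac M {i} fun _ => y
  have hwy := hwy i rfl
  have hf1P := AP h f hf1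
  have hwf : f1 * w * f1⁻¹ ∈ fac M {j} := hij ▸ conj_fac hA hσ1 hf1P hw
  have hwf0 : M.e (f1 * w * f1⁻¹) j ≠ 0 := by
    rw [← hij, Ne, hσ1 w hw.1 i, hwy]
    exact hy0
  obtain ⟨a, ha, d, hd, hde⟩ := dec (M := M) h f (f.comm_mem hw.1 hf1)
  have haP := AP h f ha
  obtain ⟨σa, hσa⟩ := M.perm a haP
  have hva : a * v * a⁻¹ ∈ fac M {σa i} := conj_fac hA hσa haP hv
  have hdV := f.near.DV hd
  have hE : ∀ m, M.e d m = M.e v m + M.e (a * v * a⁻¹) m + (M.e w m + M.e (f1 * w * f1⁻¹) m) := by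
    intro m
    rw [hde, M.mul _ hw.1 _ hwf.1]
    rfl
  have hfb := f.D_fix hb hd
  have hff := f.D_fix hf1 hd
  have s1 := supp_iff hA hσ hdV hfb i
  by_cases h1 : σa i = i
  · -- `j` is in the support
    have h2 : M.e d j ≠ 0 := by
      rw [hE, hv.2 j hne, hva.2 j (by rw [h1]; exact hne), hw.2 j hne, zero_add, zero_add, zero_add]
      exact hwf0
    have h3 : M.e d i ≠ 0 := by
      have := supp_iff hA hσ1 hdV hff j
      rw [sigma_j h f hv hf1 hσ1 hij hne] at this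
      rwa [Ne, this]
    apply mt s1.1 h3
    rw [hE, hv.2 _ hmi, hva.2 _ (by rw [h1]; exact hmi), hw.2 _ hmi, hwf.2 _ hmj]
    simp
  by_cases h2 : σa i = j
  · have h3 : M.e d i ≠ 0 := by
      rw [hE, hva.2 i (by rw [h2]; exact hne.symm), hwf.2 i hne.symm, add_zero, add_zero]
      intro h4
      rw [hwy] at h4
      exact hy1 (add_eq_zero_iff'.1 h4).symm
    apply mt s1.1 h3
    rw [hE, hv.2 _ hmi, hva.2 _ (by rw [h2]; exact hmj), hw.2 _ hmi, hwf.2 _ hmj]
    simp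
  · -- the components `i` and `j` of `d`
    have h3 : M.e d i = M.e (v * w) i := by
      rw [hE, hva.2 i fun h' => h1 h'.symm, hwf.2 i hne.symm, M.mul v hv.1 w hw.1, add_zero, add_zero]
      rfl
    have h4 := comp_eq hA hσ1 hf1P hdV (mul_mem hv.1 hw.1) h3
    rw [hff, hij, hE, hv.2 j hne, hva.2 j fun h' => h2 h'.symm, hw.2 j hne, zero_add, zero_add, zero_add] at h4
    have e1 : f1 * (v * w) * f1⁻¹ = (f1 * v * f1⁻¹) * (f1 * w * f1⁻¹) := by group
    rw [e1, M.mul _ (hA.conj_mem hf1P hv.1) _ hwf.1, Pi.add_apply] at h4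
    have h5 : M.e (f1 * v * f1⁻¹) j = 0 := right_eq_add.1 h4
    rw [← hij, hσ1 v hv.1] at h5
    exact hvi h5

/-- `w` or `v w` is centralised by the stabiliser of `i` in `A`. -/
theorem cent_or {w : G} (hw : w ∈ fac M {i}) :
    (∀ b ∈ AA (S : Subgroup G) P g, ∀ σ, Mv M b σ → σ i = i → M.e (b * w * b⁻¹) i = M.e w i) ∨
      ∀ b ∈ AA (S : Subgroup G) P g, ∀ σ, Mv M b σ → σ i = i →
        M.e (b * (v * w) * b⁻¹) i = M.e (v * w) i := by
  have hA := amb h
  have hf1P := AP h f hf1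
  have hwf : f1 * w * f1⁻¹ ∈ fac M {j} := hij ▸ conj_fac hA hσ1 hf1P hw
  obtain ⟨a, ha, d, hd, hde⟩ := dec (M := M) h f (f.comm_mem hw.1 hf1)
  have haP := AP h f ha
  obtain ⟨σa, hσa⟩ := M.perm a haP
  have hva : a * v * a⁻¹ ∈ fac M {σa i} := conj_fac hA hσa haP hv
  have hdV := f.near.DV hd
  have hE : ∀ m, M.e d m = M.e v m + M.e (a * v * a⁻¹) m + (M.e w m + M.e (f1 * w * f1⁻¹) m) := by
    intro m
    rw [hde, M.mul _ hw.1 _ hwf.1]
    rfl
  have hff := f.D_fix hf1 hd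
  rcases orbit h f hv hf1 hσ1 hij hne ha hσa with h1 | h1
  · left
    -- `v ^ a = v`
    have h3 : M.e d i = M.e (v * (a * v * a⁻¹) * w) i := by
      rw [hE, hwf.2 i hne.symm, M.mul _ (mul_mem hv.1 hva.1) w hw.1, M.mul _ hv.1 _ hva.1, add_zero]
      rfl
    have h4 := comp_eq hA hσ1 hf1P hdV (mul_mem (mul_mem hv.1 hva.1) hw.1) h3
    rw [hff, hij, hE, hv.2 j hne, hva.2 j (by rw [h1]; exact hne), hw.2 j hne, zero_add, zero_add, zero_add] at h4
    have e1 : f1 * (v * (a * v * a⁻¹) * w) * f1⁻¹ = (f1 * (v * (a * v * a⁻¹)) * f1⁻¹) * (f1 * w * f1⁻¹) := by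
      group
    rw [e1, M.mul _ (hA.conj_mem hf1P (mul_mem hv.1 hva.1)) _ hwf.1, Pi.add_apply] at h4
    have h5 : M.e (f1 * (v * (a * v * a⁻¹)) * f1⁻¹) j = 0 := right_eq_add.1 h4
    rw [← hij, hσ1 _ (mul_mem hv.1 hva.1), M.mul _ hv.1 _ hva.1, Pi.add_apply] at h5
    have h6 : M.e d i = M.e w i := by
      rw [hE, h5, hwf.2 i hne.symm, zero_add, add_zero]
    intro b hb σ hσ hσi
    have h7 := comp_eq hA hσ (AP h f hb) hdV hw.1 h6
    rw [f.D_fix hb hd, hσi] at h7
    rw [← h7, h6]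
  · right
    have h6 : M.e d i = M.e (v * w) i := by
      rw [hE, hva.2 i (by rw [h1]; exact hne.symm), hwf.2 i hne.symm, M.mul v hv.1 w hw.1, add_zero, add_zero]
      rfl
    intro b hb σ hσ hσi
    have h7 := comp_eq hA hσ (AP h f hb) hdV (mul_mem hv.1 hw.1) h6
    rw [f.D_fix hb hd, hσi] at h7
    rw [← h7, h6]

/-- the elements of `E ∩ V_i` are the `v v^b`, `b ∈ A` fixing `i` -/
theorem exists_b {e : G} (he : e ∈ EE (S : Subgroup G) P) (hei : e ∈ fac M {i}) :
    ∃ b ∈ AA (S : Subgroup G) P g, ∃ σ, Mv M b σ ∧ σ i = i ∧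
      M.e (b * v * b⁻¹) i = M.e v i + M.e e i := by
  have hA := amb h
  have hf1P := AP h f hf1
  obtain ⟨a, ha, d, hd, hE⟩ := dec (M := M) h f he
  have haP := AP h f ha
  obtain ⟨σa, hσa⟩ := M.perm a haP
  have hva : a * v * a⁻¹ ∈ fac M {σa i} := conj_fac hA hσa haP hv
  have hdV := f.near.DV hd
  have hff := f.D_fix hf1 hd
  rcases orbit h f hv hf1 hσ1 hij hne ha hσa with h1 | h1
  · refine ⟨a, ha, σa, hσa, h1, ?_⟩
    have h2 : M.e d j = 0 := by
      rw [hE, hv.2 j hne, hva.2 j (by rw [h1]; exact hne), hei.2 j hne]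
      simp
    have h3 := supp_iff hA hσ1 hdV hff i
    rw [hij] at h3
    have h4 := h3.1 h2
    rw [hE] at h4
    have h5 := add_eq_zero_iff'.1 h4
    rw [← h5, ← add_assoc, show M.e v i + M.e v i = 0 from funext fun _ => CharTwo.add_self_eq_zero _, zero_add]
  · have h3 : M.e d i = M.e (v * e) i := by
      rw [hE, hva.2 i (by rw [h1]; exact hne.symm), M.mul v hv.1 e hei.1, add_zero]
      rfl
    have h4 := comp_eq hA hσ1 hf1P hdV (mul_mem hv.1 hei.1) h3
    rw [hff, hij, hE, hv.2 j hne, hei.2 j hne, zero_add, add_zero] at h4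
    have h5 : f1 * (v * e) * f1⁻¹ ∈ fac M {j} := hij ▸ conj_fac hA hσ1 hf1P (mul_mem hv hei)
    have h6 : a * v * a⁻¹ = f1 * (v * e) * f1⁻¹ := eq_of_comp (h1 ▸ hva) h5 h4
    refine ⟨f1 * a, mul_mem hf1 ha, σ1 * σa, mv_mul hA haP hσ1 hσa, ?_, ?_⟩
    · rw [Equiv.Perm.mul_apply, h1]
      exact sigma_j h f hv hf1 hσ1 hij hne
    · have e1 : f1 * a * v * (f1 * a)⁻¹ = f1 * (a * v * a⁻¹) * f1⁻¹ := by group
      have e2 : f1 * (f1 * (v * e) * f1⁻¹) * f1⁻¹ = (f1 * f1) * (v * e) * (f1 * f1)⁻¹ := by group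
      rw [e1, h6, e2, f.A_sq hf1, one_mul, inv_one, mul_one, M.mul v hv.1 e hei.1]
      rfl

/-- `|F| = 2` -/
theorem card_two (hL : Ln M ≤ EE (S : Subgroup G) P) (c : F) : c = 0 ∨ c = 1 := by
  have hA := amb h
  obtain ⟨l, hl, hle⟩ := exists_fac M {i} fun _ => ![1, 0]
  have hle := hle i rfl
  have hlL : l ∈ Ln M := by
    refine ⟨hl.1, fun m => ?_⟩
    by_cases hm : m = i
    · rw [hm, hle]; rfl
    · rw [hl.2 m hm]; rfl
  obtain ⟨b, hb, σ, hσ, hσi, hbe⟩ := exists_b h f hv hf1 hσ1 hij hne (hL hlL) hl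
  obtain ⟨L, τ, hs⟩ := exists_T hA (AP h f hb) hσ i
  have hLe : ∀ w ∈ zl (S : Subgroup G) P, M.e (b * w * b⁻¹) i = L (M.e w i) := by
    intro w hw
    have := hs.e w hw
    rwa [hσi] at this
  have hv0 : M.e v i 1 ≠ 0 := by
    intro h0
    refine f.notMem (hL ⟨hv.1, fun m => ?_⟩ : v ∈ EE (S : Subgroup G) P).2
    by_cases hm : m = i
    · rw [hm, h0]
    · rw [hv.2 m hm]; rfl
  have hLv : L (M.e v i) = M.e v i + ![1, 0] := by rw [← hLe v hv.1, hbe, hle]
  have key : ∀ c : F, L (c • M.e v i) = c • M.e v i → c = 0 := by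
    intro c hc
    rw [hs.smul, hLv] at hc
    have h1 := congrFun hc 1
    have h0 := congrFun hc 0
    simp only [Pi.smul_apply, Pi.add_apply, smul_eq_mul, Matrix.cons_val_one, Matrix.cons_val_zero, add_zero] at h0 h1
    have h2 : τ c = c := mul_right_cancel₀ hv0 h1
    rw [h2, mul_add, mul_one] at h0
    exact left_eq_add.1 h0.symm
  obtain ⟨w, hw, hwe⟩ := exists_fac M {i} fun _ => c • M.e v i
  have hwe := hwe i rfl
  rcases cent_or h f hv hf1 hσ1 hij hne hw with h1 | h1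
  · left
    have h2 := h1 b hb σ hσ hσi
    rw [hLe w hw.1, hwe] at h2
    exact key c h2
  · right
    have h2 := h1 b hb σ hσ hσi
    rw [hLe _ (mul_mem hv.1 hw.1), M.mul v hv.1 w hw.1, Pi.add_apply, hwe] at h2
    have e1 : M.e v i + c • M.e v i = (1 + c) • M.e v i := by rw [add_smul, one_smul]
    rw [e1] at h2
    have h3 := key _ h2
    have h4 : (1 : F) + c + c = c := by rw [h3, zero_add]
    rw [add_assoc, CharTwo.add_self_eq_zero, add_zero] at h4
    exact h4.symm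

/-- **`Q` moves a summand: `k = 2`.** -/
theorem k_two (hL : Ln M ≤ EE (S : Subgroup G) P) : k = 2 := by
  classical
  have hA := amb h
  have hF := card_two h f hv hf1 hσ1 hij hne hL
  have hF1 : ∀ c : F, c ≠ 0 → c = 1 := fun c hc => (hF c).resolve_left hc
  by_contra hk
  have hf1P := AP h f hf1
  have hv1 := v_ne_one h f hv hf1 hσ1 hij hne
  have hvi := comp_ne_zero hv hv1
  have hv0 : M.e v i 1 ≠ 0 := by
    intro h0
    refine f.notMem (hL ⟨hv.1, fun m => ?_⟩ : v ∈ EE (S : Subgroup G) P).2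
    by_cases hm : m = i
    · rw [hm, h0]
    · rw [hv.2 m hm]; rfl
  have hvf : f1 * v * f1⁻¹ ∈ fac M {j} := hij ▸ conj_fac hA hσ1 hf1P hv
  have hvf0 : M.e (f1 * v * f1⁻¹) j 1 ≠ 0 := by
    rw [← hij, Ne, line hA (f.A_le_S h hf1) hσ1 hv.1]
    exact hv0
  -- the relation
  let R : Fin k → Fin k → Prop := fun a b => ∃ x ∈ fac M {a}, ∃ y ∈ fac M {b}, M.e x a 1 ≠ 0 ∧
    M.e y b 1 ≠ 0 ∧ x * y ∈ EE (S : Subgroup G) P
  have hprod : ∀ a, ∀ x ∈ fac M {a}, ∀ y ∈ fac M {a}, M.e x a 1 ≠ 0 → M.e y a 1 ≠ 0 →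
      x * y ∈ EE (S : Subgroup G) P := by
    intro a x hx y hy hx1 hy1
    refine hL ⟨mul_mem hx.1 hy.1, fun m => ?_⟩
    rw [M.mul x hx.1 y hy.1, Pi.add_apply, Pi.add_apply]
    by_cases hm : m = a
    · rw [hm, hF1 _ hx1, hF1 _ hy1]
      exact CharTwo.add_self_eq_zero 1
    · rw [hx.2 m hm, hy.2 m hm]
      simp
  have hrefl : ∀ a, R a a := by
    intro a
    obtain ⟨x, hx, hxe⟩ := exists_fac M {a} fun _ => ![0, 1]
    have hxe := hxe a rfl
    have h1 : M.e x a 1 ≠ 0 := by rw [hxe]; exact one_ne_zero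
    exact ⟨x, hx, x, hx, h1, h1, hprod a x hx x hx h1 h1⟩
  have htrans : ∀ a b c, R a b → R b c → R a c := by
    rintro a b c ⟨x, hx, y, hy, hx1, hy1, hxy⟩ ⟨y', hy', z, hz, hy1', hz1, hyz⟩
    refine ⟨x, hx, z, hz, hx1, hz1, ?_⟩
    have h1 := mul_mem (mul_mem hxy (hprod b y hy y' hy' hy1 hy1')) hyz
    have e1 : x * y * (y * y') * (y' * z) = x * (y * y) * (y' * y') * z := by group
    rw [e1, sq_self hA hy.1, sq_self hA hy'.1, mul_one, mul_one] at h1
    exact h1
  have hinv : ∀ t ∈ (S : Subgroup G), ∀ σ, Mv M t σ → ∀ a b, R a b → R (σ a) (σ b) := by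
    rintro t ht σ hσ a b ⟨x, hx, y, hy, hx1, hy1, hxy⟩
    have htP := h.S_le ht
    refine ⟨t * x * t⁻¹, conj_fac hA hσ htP hx, t * y * t⁻¹, conj_fac hA hσ htP hy, ?_, ?_, ?_⟩
    · rwa [Ne, line hA ht hσ hx.1]
    · rwa [Ne, line hA ht hσ hy.1]
    · have := E_conj h ht hxy
      have e1 : t * (x * y) * t⁻¹ = t * x * t⁻¹ * (t * y * t⁻¹) := by group
      rwa [e1] at this
  have hRij : R i j := ⟨v, hv, _, hvf, hv0, hvf0, f.comm_mem hv.1 hf1⟩
  have hclass : ∀ m, R i m → m = i ∨ m = j := by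
    rintro m ⟨x, hx, y, hy, hx1, hy1, hxy⟩
    by_contra hcon
    push Not at hcon
    obtain ⟨hmi, hmj⟩ := hcon
    have he : v * y ∈ EE (S : Subgroup G) P := by
      have h1 := mul_mem (hprod i v hv x hx hv0 hx1) hxy
      have e1 : v * x * (x * y) = v * (x * x) * y := by group
      rwa [e1, sq_self hA hx.1, mul_one] at h1
    obtain ⟨a, ha, d, hd, hE⟩ := dec (M := M) h f he
    have haP := AP h f ha
    obtain ⟨σa, hσa⟩ := M.perm a haP
    have hva : a * v * a⁻¹ ∈ fac M {σa i} := conj_fac hA hσa haP hv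
    have hva0 : M.e (a * v * a⁻¹) (σa i) ≠ 0 := by rw [Ne, hσa v hv.1]; exact hvi
    have hdV := f.near.DV hd
    have hE' : ∀ m, M.e d m = M.e (a * v * a⁻¹) m + M.e y m := by
      intro m
      rw [hE, M.mul v hv.1 y hy.1, Pi.add_apply]
      have e2 : ∀ x y z : Fin 2 → F, x + y + (x + z) = y + z := by
        intro x y z
        rw [add_add_add_comm, show x + x = 0 from funext fun _ => CharTwo.add_self_eq_zero _, zero_add]
      exact e2 _ _ _
    have h3 := supp_iff hA hσ1 hdV (f.D_fix hf1 hd) (σa i)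
    rcases orbit h f hv hf1 hσ1 hij hne ha hσa with h1 | h1
    · rw [h1, hij, hE', hE', hy.2 i fun h' => hmi h'.symm, hy.2 j fun h' => hmj h'.symm,
        hva.2 j (by rw [h1]; exact hne)] at h3
      rw [h1] at hva0
      apply hva0
      have := h3.1 (add_zero 0)
      rwa [add_zero] at this
    · rw [h1, sigma_j h f hv hf1 hσ1 hij hne, hE', hE', hy.2 i fun h' => hmi h'.symm,
        hy.2 j fun h' => hmj h'.symm, hva.2 i (by rw [h1]; exact hne.symm)] at h3
      rw [h1] at hva0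
      apply hva0
      have := h3.1 (add_zero 0)
      rwa [add_zero] at this
  -- a third summand
  obtain ⟨m₀, hm₀⟩ : ∃ m₀, ¬ R i m₀ := by
    by_contra hcon
    push Not at hcon
    have h1 : (Finset.univ : Finset (Fin k)) ⊆ {i, j} := by
      intro m _
      rw [Finset.mem_insert, Finset.mem_singleton]
      exact hclass m (hcon m)
    have h2 := Finset.card_le_card h1
    rw [Finset.card_univ, Fintype.card_fin] at h2
    have h3 : Finset.card ({i, j} : Finset (Fin k)) ≤ 2 := Finset.card_le_two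
    have h4 : 2 ≤ k := by
      by_contra h5
      have h6 := i.2
      have h7 := j.2
      exact hne (Fin.ext (by omega))
    omega
  obtain ⟨B, hB, hBi⟩ := exists_blk hA S.isPGroup' R hrefl htrans hinv hm₀
  have hiB := hBi i (hrefl i)
  have hjB := hBi j hRij
  -- the element of the lines with full support in `B`
  obtain ⟨l, hl, hle⟩ := exists_fac M B fun _ => ![1, 0]
  have hlL : l ∈ Ln M := by
    refine ⟨hl.1, fun m => ?_⟩
    by_cases hm : m ∈ B
    · rw [hle m hm]; rfl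
    · rw [hl.2 m hm]; rfl
  have hlD : l ∈ DD (S : Subgroup G) P g := by
    obtain ⟨a, ha, d, hd, hE⟩ := dec (M := M) h f (hL hlL)
    have haP := AP h f ha
    obtain ⟨σa, hσa⟩ := M.perm a haP
    have hva : a * v * a⁻¹ ∈ fac M {σa i} := conj_fac hA hσa haP hv
    have hdV := f.near.DV hd
    rcases orbit h f hv hf1 hσ1 hij hne ha hσa with h1 | h1
    · -- `v ^ a = v`
      have h2 := supp_iff hA hσ1 hdV (f.D_fix hf1 hd) i
      rw [hij, hE, hE, hl.2 i hiB, hl.2 j hjB, hv.2 j hne, hva.2 j (by rw [h1]; exact hne)] at h2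
      have h3 := h2.1 (by simp)
      rw [add_zero] at h3
      have h4 : d = l := by
        apply inj M hdV hl.1
        funext m
        rw [hE]
        by_cases hm : m = i
        · rw [hm, h3, zero_add]
        · rw [hv.2 m hm, hva.2 m (by rw [h1]; exact hm), zero_add, zero_add]
      rwa [← h4]
    · exfalso
      -- the component `v` of `d` would be centralised
      obtain ⟨l', hl', hle'⟩ := exists_fac M {i} fun _ => ![1, 0]
      have hle' := hle' i rfl
      have hlL' : l' ∈ Ln M := by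
        refine ⟨hl'.1, fun m => ?_⟩
        by_cases hm : m = i
        · rw [hm, hle']; rfl
        · rw [hl'.2 m hm]; rfl
      obtain ⟨b, hb, σ, hσ, hσi, hbe⟩ := exists_b h f hv hf1 hσ1 hij hne (hL hlL') hl'
      have h2 : M.e d i = M.e v i := by
        rw [hE, hva.2 i (by rw [h1]; exact hne.symm), hl.2 i hiB, add_zero, add_zero]
      have h3 := comp_eq hA hσ (AP h f hb) hdV hv.1 h2
      rw [f.D_fix hb hd, hσi, h2, hbe, hle'] at h3
      have h4 := congrFun h3 0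
      rw [Pi.add_apply] at h4
      have h5 : (![1, 0] : Fin 2 → F) 0 = 0 := left_eq_add.1 h4
      exact one_ne_zero h5
  have h6 := (app_nat h.ctx.char2 S hA hB hl fun m hm => by
    rw [hle m hm]
    intro h0
    exact one_ne_zero (congrFun h0 0)).1
  exact f.not_mem_o2_centralizer hlD (h6 ⟨hv.1, fun m hm => hv.2 m fun h' => hm (by
    rw [show m = i from h']
    exact hiB)⟩)

end swap

end Cfsg.Agent.Omega.NO1.Many
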