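import Cfsg.Agent.Omega.NO1.Cfg
import Cfsg.Agent.Omega.Half.AppNat

/-!
# The leaf N1, `V_P` a sum of `k ≥ 2` natural modules: the tool (text helper727 #14576 (0))

* `not_mem_o2` : in a frame `v ∉ O₂(H)` for every subgroup `H` containing `X = ⟨V₁, V₁^g⟩`;
* `not_mem_o2_centralizer` : `v ∉ O₂(C_G(d))` for every `d ∈ D`;
* `Fam` : the data of a frame at `v`.
-/

set_option autoImplicit false
set_option linter.unusedSectionVars false

namespace Cfsg.Agent.Omega.NO1.Many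

open Subgroup Cfsg Cfsg.Agent.ZN Cfsg.Agent.Omega.MinPar Cfsg.Agent.Omega.Frame
open Cfsg.Agent.Omega.NoFF.LinesPlug (CC NoOne)
open Cfsg.Agent.Omega.NoFF.Basic
open Cfsg.Agent.Omega.NOne Cfsg.Agent.Omega.NOne.NearFF
open Cfsg.Agent.MinSimple.VModule (o2_isPGroup)
open Cfsg.Agent.Omega.NOne.Frame (Fr X mem_conj' conj_mem norm_mem norm_mem')
open scoped Pointwise

universe u

variable {G : Type u} [Group G] [Finite G]

theorem not_mem_o2 {V Q H : Subgroup G} {v g : G} (h : Fr (V1 V Q v) Q g) (hQ2 : IsPGroup 2 Q)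
    (hX : ¬ IsPGroup 2 (X (V1 V Q v) g)) (hXH : X (V1 V Q v) g ≤ H) : v ∉ o2 H := by
  intro hv
  apply hX
  set W : Subgroup G := NOne.Frame.W (V1 V Q v) Q g with hW
  have hWQ : W ≤ Q := h.W_le_Q
  have hW2 : IsPGroup 2 W := hQ2.to_le hWQ
  have hXW : X (V1 V Q v) g ≤ normalizer (W : Set G) := h.X_norm_W
  have hXo : X (V1 V Q v) g ≤ normalizer ((o2 H ⊓ X (V1 V Q v) g : Subgroup G) : Set G) :=
    Half.le_normalizer_inf (hXH.trans (le_normalizer_o2 H)) le_normalizer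
  have hY2 : IsPGroup 2 ((o2 H ⊓ X (V1 V Q v) g : Subgroup G) ⊔ W : Subgroup G) :=
    IsPGroup.to_sup_of_normal_right' ((o2_isPGroup H).to_le inf_le_left) hW2 (inf_le_right.trans hXW)
  have hvX : v ∈ X (V1 V Q v) g := mem_sup_left (mem_sup_right (mem_zpowers v))
  have hV1 : V1 V Q v ≤ (o2 H ⊓ X (V1 V Q v) g : Subgroup G) ⊔ W := by
    refine sup_le ?_ (zpowers_le.2 (mem_sup_left (mem_inf.2 ⟨hv, hvX⟩)))
    exact (le_inf le_sup_left inf_le_right : V ⊓ Q ≤ V1 V Q v ⊓ Q).trans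
      ((le_sup_left : V1 V Q v ⊓ Q ≤ W).trans le_sup_right)
  have hXY : X (V1 V Q v) g ≤
      normalizer (((o2 H ⊓ X (V1 V Q v) g : Subgroup G) ⊔ W : Subgroup G) : Set G) := by
    intro x hx
    have key : ∀ x ∈ X (V1 V Q v) g, ∀ y ∈ (o2 H ⊓ X (V1 V Q v) g : Subgroup G) ⊔ W,
        x * y * x⁻¹ ∈ (o2 H ⊓ X (V1 V Q v) g : Subgroup G) ⊔ W := by
      intro x hx y hy
      have h1 : (o2 H ⊓ X (V1 V Q v) g : Subgroup G) ⊔ W ≤
          ((o2 H ⊓ X (V1 V Q v) g : Subgroup G) ⊔ W).comap (MulAut.conj x).toMonoidHom := by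
        refine sup_le (fun a ha => ?_) (fun a ha => ?_)
        · exact mem_sup_left (norm_mem (hXo hx) ha)
        · exact mem_sup_right (norm_mem (hXW hx) ha)
      exact h1 hy
    rw [mem_normalizer_iff]
    intro y
    refine ⟨key x hx y, fun hy => ?_⟩
    have := key x⁻¹ (inv_mem hx) _ hy
    have e : x⁻¹ * (x * y * x⁻¹) * x⁻¹⁻¹ = y := by group
    rwa [e] at this
  refine hY2.to_le (sup_le hV1 fun y hy => ?_)
  obtain ⟨w, hw, rfl⟩ := mem_conj'.1 hy
  exact norm_mem (hXY h.gX) (hV1 hw)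

/-- The data of a frame at `v ∈ V - Q`, `E = V ∩ Q`. -/
structure Fam (S : Sylow 2 G) (P : Subgroup G) (v g : G) : Prop where
  mem : v ∈ zl (S : Subgroup G) P
  notMem : v ∉ o2 (CC (S : Subgroup G))
  gC : g ∈ CC (S : Subgroup G)
  fin : Fin (zl (S : Subgroup G) P) (o2 (CC (S : Subgroup G))) v g
  notTwo : ¬ IsPGroup 2 (NOne.Frame.X (V1 (zl (S : Subgroup G) P) (o2 (CC (S : Subgroup G))) v) g)

/-- `E = V ∩ Q` -/
abbrev EE (S P : Subgroup G) : Subgroup G := zl S P ⊓ o2 (CC S)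

/-- `A = E^g` -/
abbrev AA (S P : Subgroup G) (g : G) : Subgroup G := MulAut.conj g • EE S P

/-- `D = E ∩ E^g` -/
abbrev DD (S P : Subgroup G) (g : G) : Subgroup G := EE S P ⊓ MulAut.conj g • EE S P

variable {S : Sylow 2 G} {P : Subgroup G}

theorem exists_fam (h : Cfg S P) {v : G} (hv : v ∈ zl (S : Subgroup G) P)
    (hvQ : v ∉ o2 (CC (S : Subgroup G))) : ∃ g, Fam S P v g := by
  obtain ⟨g, hg, hf, hX, -⟩ := h.exists_near hv hvQ
  exact ⟨g, hv, hvQ, hg, hf, hX⟩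

namespace Fam

variable {v g : G} (f : Fam S P v g)

include f

/-- **The tool**: `v ∉ O₂(C_G(d))` for `d ∈ D`. -/
theorem not_mem_o2_centralizer {d : G} (hd : d ∈ DD (S : Subgroup G) P g) :
    v ∉ o2 (centralizer ({d} : Set G)) := by
  refine not_mem_o2 f.fin.fr (o2_isPGroup _) f.notTwo ?_
  intro x hx
  rw [mem_centralizer_singleton_iff]
  refine f.fin.cent x ?_ d hd
  have h1 : V1 (zl (S : Subgroup G) P) (o2 (CC (S : Subgroup G))) v ≤ zl (S : Subgroup G) P := V1_le f.mem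
  have h2 : X (V1 (zl (S : Subgroup G) P) (o2 (CC (S : Subgroup G))) v) g ≤
      zl (S : Subgroup G) P ⊔ MulAut.conj g • zl (S : Subgroup G) P :=
    sup_le (h1.trans le_sup_left) ((Choice.conj_mono h1).trans le_sup_right)
  exact h2 hx

theorem near : Near (zl (S : Subgroup G) P) (EE (S : Subgroup G) P) (DD (S : Subgroup G) P g)
    (AA (S : Subgroup G) P g) v := f.fin.near

theorem A_le_Q : AA (S : Subgroup G) P g ≤ o2 (CC (S : Subgroup G)) := by
  have h1 : MulAut.conj g • o2 (CC (S : Subgroup G)) = o2 (CC (S : Subgroup G)) := f.fin.fr.gQ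
  rw [← h1]
  exact Choice.conj_mono inf_le_right

theorem A_le_S (h : Cfg S P) : AA (S : Subgroup G) P g ≤ S := f.A_le_Q.trans h.Q_le_S

theorem A_comm {a b : G} (ha : a ∈ AA (S : Subgroup G) P g) (hb : b ∈ AA (S : Subgroup G) P g) :
    a * b = b * a := NOne.Frame.comm_of_le_centralizer f.near.Fcomm ha hb

theorem A_sq {a : G} (ha : a ∈ AA (S : Subgroup G) P g) : a * a = 1 := by
  rw [← pow_two]
  exact f.near.Fsq a ha

theorem A_inv {a : G} (ha : a ∈ AA (S : Subgroup G) P g) : a⁻¹ = a := f.near.inv_F ha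

/-- `d ∈ D` is centralised by `A` -/
theorem D_fix {a d : G} (ha : a ∈ AA (S : Subgroup G) P g) (hd : d ∈ DD (S : Subgroup G) P g) :
    a * d * a⁻¹ = d := by
  have := f.near.Dcent hd ha
  rw [← this, mul_inv_cancel_right]

/-- `E = [v, A] D` : every `e ∈ E` is `(v (a v a⁻¹)) d`, `a ∈ A`, `d ∈ D` -/
theorem exists_eq {e : G} (he : e ∈ EE (S : Subgroup G) P) :
    ∃ a ∈ AA (S : Subgroup G) P g, ∃ d ∈ DD (S : Subgroup G) P g, e = v * (a * v * a⁻¹) * d := by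
  obtain ⟨a, ha, h1⟩ := f.near.surj he
  refine ⟨a, ha, _, inv_mem h1, ?_⟩
  have h2 : NearFF.c v a = v * (a * v * a⁻¹) := by
    have hv1 : v⁻¹ = v := f.near.inv_V f.mem
    rw [NearFF.c]
    conv_lhs => rw [hv1]
    group
  have h3 := f.near.V_comm (f.near.c_memV f.mem ha) he.1
  rw [← h2]
  calc e = e * NearFF.c v a * (NearFF.c v a)⁻¹ := by group
    _ = NearFF.c v a * e * (NearFF.c v a)⁻¹ := by rw [h3]
    _ = NearFF.c v a * (NearFF.c v a * e⁻¹)⁻¹ := by group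

/-- `[v, a] ∈ D` implies `a ∈ D` -/
theorem inj {a : G} (ha : a ∈ AA (S : Subgroup G) P g)
    (h : v * (a * v * a⁻¹) ∈ DD (S : Subgroup G) P g) : a ∈ DD (S : Subgroup G) P g := by
  refine f.near.inj a ha ?_
  have hv1 : v⁻¹ = v := f.near.inv_V f.mem
  have e : v * a * v⁻¹ * a⁻¹ = v * (a * v * a⁻¹) := by
    rw [hv1]; group
  rw [e]
  exact h

/-- `[w, a] ∈ E` for `w ∈ V` -/
theorem comm_mem {w a : G} (hw : w ∈ zl (S : Subgroup G) P) (ha : a ∈ AA (S : Subgroup G) P g) :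
    w * (a * w * a⁻¹) ∈ EE (S : Subgroup G) P := by
  have h1 := f.near.comm w hw a ha
  have hw1 : w⁻¹ = w := f.near.inv_V hw
  have e : w * a * w⁻¹ * a⁻¹ = w * (a * w * a⁻¹) := by
    conv_lhs => rw [hw1]
    group
  rwa [e] at h1

/-- `[e, a] ∈ D` for `e ∈ E` -/
theorem comm_mem_D {e a : G} (he : e ∈ EE (S : Subgroup G) P) (ha : a ∈ AA (S : Subgroup G) P g) :
    e * (a * e * a⁻¹) ∈ DD (S : Subgroup G) P g := by
  have h1 := f.near.ED e he a ha
  have hw1 : e⁻¹ = e := f.near.inv_V he.1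
  have e : e * a * e⁻¹ * a⁻¹ = e * (a * e * a⁻¹) := by
    conv_lhs => rw [hw1]
    group
  rwa [e] at h1

/-- `D` acts trivially on `V`. -/
theorem D_triv {d w : G} (hd : d ∈ DD (S : Subgroup G) P g) (hw : w ∈ zl (S : Subgroup G) P) :
    d * w * d⁻¹ = w := by
  have := f.near.V_comm (f.near.DV hd) hw
  rw [this, mul_inv_cancel_right]

/-- `C_A(v) = D` -/
theorem mem_D {a : G} (ha : a ∈ AA (S : Subgroup G) P g) (h : a * v * a⁻¹ = v) :
    a ∈ DD (S : Subgroup G) P g := by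
  refine f.inj ha ?_
  rw [h]
  have := f.near.Vsq v f.mem
  rw [pow_two] at this
  rw [this]
  exact one_mem _

end Fam

end Cfsg.Agent.Omega.NO1.Many
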