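import Cfsg.Agent.Omega.NO1.Many.Fix

/-!
# The leaf N1, `V_P` a sum of `k ≥ 2` natural modules: the trichotomy (text helper727 #14576, referee #15070)

* `quad` : if `E ≤ Ln` (the sum of the lines) then `E = Ln`;
* `trich` : `E = Ln` or (`|F| = 2` and `k = 2`).
-/

set_option autoImplicit false
set_option linter.unusedSectionVars false

namespace Cfsg.Agent.Omega.NO1.Many

open Subgroup Cfsg Cfsg.Agent.ZN Cfsg.Agent.Omega.MinPar Cfsg.Agent.Omega.Frame Cfsg.Agent.Omega.FFThm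
open Cfsg.Agent.Omega.NoFF.LinesPlug (CC NoOne)
open Cfsg.Agent.Omega.Half Cfsg.Agent.Omega.Half.NatA
open Cfsg.Agent.Lib.SL2Mat Cfsg.Agent.Omega.NatPair
open scoped Pointwise

universe u

variable {G : Type u} [Group G] [Finite G] {S : Sylow 2 G} {P : Subgroup G} (h : Cfg S P)
  {F : Type} [Field F] [CharP F 2] {k : ℕ} {M : NatK F (S : Subgroup G) P (zl (S : Subgroup G) P) ⊥ k}

theorem eq_one_of_pow {F : Type} [Field F] [CharP F 2] : ∀ (n : ℕ) (c : F), c ^ 2 ^ n = 1 → c = 1 := by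
  intro n
  induction n with
  | zero => intro c hc; rwa [pow_zero, pow_one] at hc
  | succ n ih =>
    intro c hc
    apply ih
    rw [pow_succ, pow_mul, pow_two] at hc
    have h1 : (c ^ 2 ^ n + 1) * (c ^ 2 ^ n + 1) = 0 := by
      have : (c ^ 2 ^ n + 1) * (c ^ 2 ^ n + 1) = c ^ 2 ^ n * c ^ 2 ^ n + 1 + (c ^ 2 ^ n + c ^ 2 ^ n) := by ring
      rw [this, hc, CharTwo.add_self_eq_zero, CharTwo.add_self_eq_zero, add_zero]
    have h2 : c ^ 2 ^ n + 1 = 0 := by
      rcases mul_eq_zero.1 h1 with h | h <;> exact h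
    have h3 : c ^ 2 ^ n + 1 + 1 = 1 := by rw [h2, zero_add]
    rwa [add_assoc, CharTwo.add_self_eq_zero, add_zero] at h3

include h

/-- `[V, Q] ≤ E` -/
theorem comm_Q {q w : G} (hq : q ∈ o2 (CC (S : Subgroup G))) (hw : w ∈ zl (S : Subgroup G) P) :
    w * (q * w * q⁻¹) ∈ EE (S : Subgroup G) P := by
  have hA := amb h
  have hqw : q * w * q⁻¹ ∈ zl (S : Subgroup G) P := hA.conj_mem (h.S_le (h.Q_le_S hq)) hw
  refine mem_inf.2 ⟨mul_mem hw hqw, ?_⟩
  have h1 : w⁻¹ * q * w ∈ o2 (CC (S : Subgroup G)) := by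
    have := (mem_normalizer_iff.1 (le_normalizer_o2 _ (inv_mem (h.V_le_CC hw))) q).1 hq
    rwa [inv_inv] at this
  have h2 : w * (q * w * q⁻¹) = (w⁻¹ * q * w) * q⁻¹ := by
    rw [self_inv hA hw]
    group
  rw [h2]
  exact mul_mem h1 (inv_mem hq)

/-- if `E` is in the sum of the lines then it is the sum of the lines -/
theorem quad (hE : ∀ e ∈ EE (S : Subgroup G) P, ∀ i, M.e e i 1 = 0) :
    Ln M ≤ o2 (CC (S : Subgroup G)) := by
  have hA := amb h
  intro y hy
  refine h.char2C (mem_inf.2 ⟨h.V_le_CC hy.1, mem_centralizer_iff.2 fun q hq => ?_⟩)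
  have hqS : q ∈ (S : Subgroup G) := h.Q_le_S hq
  have hqP := h.S_le hqS
  -- `q` fixes the second coordinates
  have h1 : ∀ w ∈ zl (S : Subgroup G) P, ∀ m, M.e (q * w * q⁻¹) m 1 = M.e w m 1 := by
    intro w hw m
    have h2 := hE _ (comm_Q h hq hw) m
    rw [M.mul w hw _ (hA.conj_mem hqP hw), Pi.add_apply, Pi.add_apply] at h2
    have h3 : M.e w m 1 + M.e (q * w * q⁻¹) m 1 + M.e (q * w * q⁻¹) m 1 = M.e (q * w * q⁻¹) m 1 := by
      rw [h2, zero_add]
    rw [add_assoc, CharTwo.add_self_eq_zero, add_zero] at h3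
    exact h3.symm
  obtain ⟨σ, hσ⟩ := M.perm q hqP
  have hσi : ∀ i, σ i = i := by
    intro i
    obtain ⟨w, hw, hwe⟩ := exists_fac M {i} fun _ => ![0, 1]
    have hwe := hwe i rfl
    refine mv_apply_eq hA hσ hqP hw fun h0 => ?_
    have h2 := h1 w hw.1 i
    rw [h0, hwe] at h2
    exact zero_ne_one h2
  have hfix : ∀ i, M.e (q * y * q⁻¹) i = M.e y i := by
    intro i
    obtain ⟨L, τ, hs⟩ := exists_T hA hqP hσ i
    have hLe : ∀ w ∈ zl (S : Subgroup G) P, M.e (q * w * q⁻¹) i = L (M.e w i) := by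
      intro w hw
      have := hs.e w hw
      rwa [hσi] at this
    have hL1 : ∀ x : Fin 2 → F, L x 1 = x 1 := by
      intro x
      obtain ⟨w, hw, hwe⟩ := exists_fac M {i} fun _ => x
      have hwe := hwe i rfl
      rw [← hwe, ← hLe w hw.1]
      exact h1 w hw.1 i
    have hτ : ∀ c, τ c = c := by
      intro c
      have h2 := hL1 (c • ![0, 1])
      rw [hs.smul, Pi.smul_apply, hL1, Pi.smul_apply] at h2
      simpa using h2
    have hL2 : L ![1, 0] = (L ![1, 0] 0) • ![1, 0] := by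
      apply ext2
      · simp
      · rw [hL1]; simp
    set c := L ![1, 0] 0 with hc
    -- `c = 1`
    obtain ⟨w, hw, hwe⟩ := exists_fac M {i} fun _ => ![1, 0]
    have hwe := hwe i rfl
    have hpow : ∀ n : ℕ, q ^ n * w * (q ^ n)⁻¹ ∈ zl (S : Subgroup G) P ∧
        M.e (q ^ n * w * (q ^ n)⁻¹) i = c ^ n • ![1, 0] := by
      intro n
      induction n with
      | zero => rw [pow_zero, one_mul, inv_one, mul_one, pow_zero, one_smul]; exact ⟨hw.1, hwe⟩
      | succ n ih =>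
        have e1 : q ^ (n + 1) * w * (q ^ (n + 1))⁻¹ = q * (q ^ n * w * (q ^ n)⁻¹) * q⁻¹ := by
          rw [pow_succ']; group
        rw [e1]
        refine ⟨hA.conj_mem hqP ih.1, ?_⟩
        rw [hLe _ ih.1, ih.2, hs.smul, hτ, hL2, smul_smul, pow_succ]
    obtain ⟨n, hn⟩ : ∃ n : ℕ, q ^ 2 ^ n = 1 := by
      obtain ⟨n, hn⟩ := S.isPGroup' ⟨q, hqS⟩
      exact ⟨n, congrArg Subtype.val hn⟩
    have h4 := (hpow (2 ^ n)).2
    rw [hn, one_mul, inv_one, mul_one, hwe] at h4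
    have h5 := congrFun h4 0
    simp only [Pi.smul_apply, smul_eq_mul, Matrix.cons_val_zero, mul_one] at h5
    have hc1 := eq_one_of_pow n c h5.symm
    rw [hc1, one_smul] at hL2
    rw [hLe y hy.1, decomp (M.e y i), hy.2 i, zero_smul, add_zero, hs.smul, hτ, hL2]
  have h6 : q * y * q⁻¹ = y := inj M (hA.conj_mem hqP hy.1) hy.1 (funext hfix)
  calc q * y = q * y * q⁻¹ * q := by group
    _ = y * q := by rw [h6]

/-- **The trichotomy of NatMany.** -/
theorem trich [Finite F] (M : NatK F (S : Subgroup G) P (zl (S : Subgroup G) P) ⊥ k) (hk : 2 ≤ k) :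
    (∀ v ∈ zl (S : Subgroup G) P, v ∈ o2 (CC (S : Subgroup G)) ↔ ∀ i, M.e v i 1 = 0) ∨
      (Nat.card F = 2 ∧ k = 2) := by
  have hA := amb h
  by_cases hE : ∀ e ∈ EE (S : Subgroup G) P, ∀ i, M.e e i 1 = 0
  · left
    intro v hv
    constructor
    · intro hvQ
      exact hE v (mem_inf.2 ⟨hv, hvQ⟩)
    · intro h1
      exact quad h hE ⟨hv, h1⟩
  · right
    push Not at hE
    obtain ⟨e₁, he₁, i₁, hi₁⟩ := hE
    have hL := Ln_le hA (E := EE (S : Subgroup G) P) inf_le_left (fun t ht e he => E_conj h ht he) he₁ hi₁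
    -- a summand not contained in `Q`
    obtain ⟨i, v, hv, hvQ⟩ : ∃ i, ∃ v ∈ fac M {i}, v ∉ o2 (CC (S : Subgroup G)) := by
      by_contra hcon
      push Not at hcon
      obtain ⟨v, hv, hvQ⟩ := h.exists_v
      apply hvQ
      refine mem_of_comps (M := M) hv fun i => ?_
      obtain ⟨x, hx, hxe⟩ := exists_fac M {i} (M.e v)
      exact ⟨x, hcon i x hx, hx, hxe i rfl⟩
    -- move `e₁` to `i`
    obtain ⟨t, ht, h1⟩ := M.trans i₁ i
    obtain ⟨ρ, hρ⟩ := M.perm t (h.S_le ht)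
    have h2 := Mv.unique M hA (σ := ρ) hρ (h.S_le ht) h1
    have he₀ : t * e₁ * t⁻¹ ∈ EE (S : Subgroup G) P := E_conj h ht he₁
    have he₀i : M.e (t * e₁ * t⁻¹) i 1 ≠ 0 := by
      rw [← h2, Ne, line hA ht hρ he₁.1]
      exact hi₁
    obtain ⟨g, f⟩ := exists_fam h hv.1 hvQ
    by_cases hfix : ∀ a ∈ AA (S : Subgroup G) P g, ∀ σ, Mv M a σ → σ i = i
    · exact (fix_false h f hv hfix he₀ he₀i hk hL).elim
    · push Not at hfix
      obtain ⟨f1, hf1, σ1, hσ1, hne⟩ := hfix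
      refine ⟨?_, k_two h f hv hf1 hσ1 rfl hne hL⟩
      have hF := card_two h f hv hf1 hσ1 rfl hne hL
      have h3 : Nat.card F = Nat.card (Fin 2) := by
        refine Nat.card_congr (Equiv.symm (Equiv.ofBijective (fun n : Fin 2 => if n = 0 then (0 : F) else 1) ⟨?_, ?_⟩))
        · intro a b hab
          fin_cases a <;> fin_cases b <;> simp_all
        · intro c
          rcases hF c with rfl | rfl
          · exact ⟨0, by simp⟩
          · exact ⟨1, by simp⟩
      rw [h3, Nat.card_eq_fintype_card, Fintype.card_fin]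

end Cfsg.Agent.Omega.NO1.Many
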